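import Mathlib

/-! nilpotent multiplicative filtrations of a (non-commutative) ring -/

set_option autoImplicit false

universe u

namespace Groth.Agent.ResProp.EF.K734

/-- nilpotent multiplicative filtration of a ring by additive subgroups (`F n` is the `(n+1)`-st
step) -/
structure NFil (D : Type u) [Ring D] where
  F : ℕ → AddSubgroup D
  anti : ∀ n x, x ∈ F (n + 1) → x ∈ F n
  mul : ∀ m n x y, x ∈ F m → y ∈ F n → x * y ∈ F (m + n + 1)
  k : ℕ
  top : ∀ x, x ∈ F k → x = 0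

namespace NFil

variable {D : Type u} [Ring D] (N : NFil D)

theorem le {m n : ℕ} (h : m ≤ n) {x : D} (hx : x ∈ N.F n) : x ∈ N.F m := by
  induction n, h using Nat.le_induction with
  | base => exact hx
  | succ n _ ih => exact ih (N.anti n x hx)

theorem mul_mem {n : ℕ} {x y : D} (hx : x ∈ N.F 0) (hy : y ∈ N.F n) : x * y ∈ N.F (n + 1) := by
  have := N.mul 0 n x y hx hy
  rwa [zero_add] at this

theorem mul_mem' {n : ℕ} {x y : D} (hx : x ∈ N.F n) (hy : y ∈ N.F 0) : x * y ∈ N.F (n + 1) :=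
  N.mul n 0 x y hx hy

theorem pow_mem {n : ℕ} {x : D} (hx : x ∈ N.F n) (i : ℕ) : x ^ (i + 1) ∈ N.F (n + i) := by
  induction i with
  | zero => simpa using hx
  | succ i ih =>
    rw [pow_succ']
    have := N.mul_mem (N.le (Nat.zero_le n) hx) ih
    exact this

theorem isNilpotent {n : ℕ} {x : D} (hx : x ∈ N.F n) : IsNilpotent x :=
  ⟨N.k + 1, N.top _ (N.le (by omega) (N.pow_mem hx N.k))⟩

theorem exists_unit {n : ℕ} {x : D} (hx : x ∈ N.F n) : ∃ u : Dˣ, (u : D) = 1 + x := by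
  obtain ⟨u, hu⟩ := (N.isNilpotent hx).isUnit_one_add
  exact ⟨u, hu⟩

theorem inv_sub_one_mem {n : ℕ} {u : Dˣ} (hu : (u : D) - 1 ∈ N.F n) :
    ((u⁻¹ : Dˣ) : D) - 1 ∈ N.F n := by
  set y : D := 1 - (u : D) with hy
  have hyF : y ∈ N.F n := by
    have := (N.F n).neg_mem hu
    rwa [neg_sub] at this
  have hz : y ^ (N.k + 1) = 0 := N.top _ (N.le (by omega) (N.pow_mem hyF N.k))
  have h1 : ((u⁻¹ : Dˣ) : D) = ∑ i ∈ Finset.range (N.k + 1), y ^ i := by
    have h2 : (u : D) * ∑ i ∈ Finset.range (N.k + 1), y ^ i = 1 := by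
      have h3 : (u : D) = 1 - y := by rw [hy]; abel
      rw [h3, mul_neg_geom_sum, hz, sub_zero]
    calc ((u⁻¹ : Dˣ) : D) = ((u⁻¹ : Dˣ) : D) * ((u : D) * ∑ i ∈ Finset.range (N.k + 1), y ^ i) := by
          rw [h2, mul_one]
      _ = _ := by rw [← mul_assoc, Units.inv_mul, one_mul]
  rw [h1, Finset.sum_range_succ', pow_zero, add_sub_cancel_right]
  exact (N.F n).sum_mem fun i _ => N.le (by omega) (N.pow_mem hyF i)

/-- the subgroup `1 + F n` of the units -/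
def V (n : ℕ) : Subgroup Dˣ where
  carrier := {u | (u : D) - 1 ∈ N.F n}
  one_mem' := by simp
  mul_mem' := by
    intro a b ha hb
    have : ((a * b : Dˣ) : D) - 1 = ((a : D) - 1) + ((b : D) - 1) + ((a : D) - 1) * ((b : D) - 1) := by
      rw [Units.val_mul]; noncomm_ring
    change ((a * b : Dˣ) : D) - 1 ∈ N.F n
    rw [this]
    exact (N.F n).add_mem ((N.F n).add_mem ha hb)
      (N.anti _ _ (N.mul_mem (N.le (Nat.zero_le _) ha) hb))
  inv_mem' := fun h => N.inv_sub_one_mem h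

theorem mem_V {n : ℕ} {u : Dˣ} : u ∈ N.V n ↔ (u : D) - 1 ∈ N.F n := Iff.rfl

theorem V_le {m n : ℕ} (h : m ≤ n) : N.V n ≤ N.V m := fun _ hu => N.le h hu

/-- products in `1 + F n` modulo `F (n+1)` -/
theorem mul_sub {n : ℕ} {u v : Dˣ} (hu : u ∈ N.V n) (hv : v ∈ N.V n) :
    (((u * v : Dˣ) : D) - 1) - (((u : D) - 1) + ((v : D) - 1)) ∈ N.F (n + 1) := by
  have : (((u * v : Dˣ) : D) - 1) - (((u : D) - 1) + ((v : D) - 1)) =
      ((u : D) - 1) * ((v : D) - 1) := by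
    rw [Units.val_mul]; noncomm_ring
  rw [this]
  exact N.mul_mem (N.le (Nat.zero_le _) hu) hv

theorem inv_sub {n : ℕ} {u : Dˣ} (hu : u ∈ N.V n) :
    (((u⁻¹ : Dˣ) : D) - 1) - (-((u : D) - 1)) ∈ N.F (n + 1) := by
  have h := N.mul_sub ((N.V n).inv_mem hu) hu
  rw [inv_mul_cancel, Units.val_one, sub_self, zero_sub] at h
  have h2 := (N.F (n + 1)).neg_mem h
  rw [neg_neg] at h2
  convert h2 using 1
  abel

/-- a unit normalizes the filtration -/
def Nz (s : Dˣ) : Prop := ∀ n x, x ∈ N.F n → (s : D) * x * ((s⁻¹ : Dˣ) : D) ∈ N.F n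

theorem Nz.mul {s t : Dˣ} (hs : N.Nz s) (ht : N.Nz t) : N.Nz (s * t) := by
  intro n x hx
  have := hs n _ (ht n x hx)
  rw [mul_inv_rev, Units.val_mul, Units.val_mul]
  simpa only [mul_assoc] using this

theorem Nz_of_mem_V {u : Dˣ} (hu : u ∈ N.V 0) : N.Nz u := by
  intro n x hx
  have hv := (N.V 0).inv_mem hu
  have : (u : D) * x * ((u⁻¹ : Dˣ) : D) =
      x + ((u : D) - 1) * x + (x * (((u⁻¹ : Dˣ) : D) - 1) +
        ((u : D) - 1) * (x * (((u⁻¹ : Dˣ) : D) - 1))) := by noncomm_ring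
  rw [this]
  have h2 : x * (((u⁻¹ : Dˣ) : D) - 1) ∈ N.F n := N.anti _ _ (N.mul_mem' hx hv)
  exact (N.F n).add_mem ((N.F n).add_mem hx (N.anti _ _ (N.mul_mem hu hx)))
    ((N.F n).add_mem h2 (N.anti _ _ (N.mul_mem hu h2)))

theorem conj_sub_of_mem_V {u : Dˣ} (hu : u ∈ N.V 0) {n : ℕ} {x : D} (hx : x ∈ N.F n) :
    (u : D) * x * ((u⁻¹ : Dˣ) : D) - x ∈ N.F (n + 1) := by
  have hv := (N.V 0).inv_mem hu
  have : (u : D) * x * ((u⁻¹ : Dˣ) : D) - x =
      ((u : D) - 1) * x + (x * (((u⁻¹ : Dˣ) : D) - 1) +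
        ((u : D) - 1) * (x * (((u⁻¹ : Dˣ) : D) - 1))) := by noncomm_ring
  rw [this]
  have h2 : x * (((u⁻¹ : Dˣ) : D) - 1) ∈ N.F (n + 1) := N.mul_mem' hx hv
  exact (N.F (n + 1)).add_mem (N.mul_mem hu hx)
    ((N.F (n + 1)).add_mem h2 (N.anti _ _ (N.mul_mem hu h2)))

theorem conj_mem_V {s u : Dˣ} (hs : N.Nz s) {n : ℕ} (hu : u ∈ N.V n) : s * u * s⁻¹ ∈ N.V n := by
  have := hs n _ hu
  have h2 : ((s * u * s⁻¹ : Dˣ) : D) - 1 = (s : D) * ((u : D) - 1) * ((s⁻¹ : Dˣ) : D) := by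
    rw [Units.val_mul, Units.val_mul, _root_.mul_sub, mul_one, _root_.sub_mul, Units.mul_inv]
  change ((s * u * s⁻¹ : Dˣ) : D) - 1 ∈ N.F n
  rw [h2]
  exact this

/-- matrices with entries in the filtration -/
def mat (ι : Type) [Fintype ι] [DecidableEq ι] : NFil (Matrix ι ι D) where
  F n :=
    { carrier := {X | ∀ i j, X i j ∈ N.F n}
      zero_mem' := fun i j => (N.F n).zero_mem
      add_mem' := fun hX hY i j => (N.F n).add_mem (hX i j) (hY i j)
      neg_mem' := fun hX i j => (N.F n).neg_mem (hX i j) }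
  anti n X hX i j := N.anti n _ (hX i j)
  mul m n X Y hX hY i j := by
    rw [Matrix.mul_apply]
    exact (N.F (m + n + 1)).sum_mem fun l _ => N.mul m n _ _ (hX i l) (hY l j)
  k := N.k
  top X hX := by
    ext i j
    exact N.top _ (hX i j)

theorem mem_mat {ι : Type} [Fintype ι] [DecidableEq ι] {n : ℕ} {X : Matrix ι ι D} :
    X ∈ (N.mat ι).F n ↔ ∀ i j, X i j ∈ N.F n := Iff.rfl

end NFil

end Groth.Agent.ResProp.EF.K734
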