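import Mathlib
import Groth.Agent.ResProp.EF.K734.NFil

/-!
# G4 (sections 4.2, 4.3 of helper980's short proof), abstract part

`FD R I` : a filtered `R`-algebra `P` and a filtered `P`-module `K` with `P`-linear operators `op i`
(`K` = total module of a complex, operators = differential and projections to the degrees).
`FD.DD j` : the operators of 4.3.  `FD.SIso` : semilinear isomorphisms.
-/

set_option autoImplicit false

universe u

namespace Groth.Agent.ResProp.EF.K734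

/-- filtered ring and filtered module with operators, over `R` -/
structure FD (R : Type u) [CommRing R] (I : Type) : Type (u + 1) where
  P : Type u
  [crP : CommRing P]
  [alP : Algebra R P]
  K : Type u
  [acK : AddCommGroup K]
  [mRK : Module R K]
  [mPK : Module P K]
  [stK : IsScalarTower R P K]
  k : ℕ
  Fil : ℕ → Ideal P
  Fil_zero : Fil 0 = ⊤
  Fil_succ : ∀ n, Fil (n + 1) ≤ Fil n
  Fil_mul : ∀ m n x y, x ∈ Fil m → y ∈ Fil n → x * y ∈ Fil (m + n)
  FilK : ℕ → Submodule P K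
  FilK_zero : FilK 0 = ⊤
  FilK_succ : ∀ n, FilK (n + 1) ≤ FilK n
  FilK_smul : ∀ a m (x : P) (v : K), x ∈ Fil a → v ∈ FilK m → x • v ∈ FilK (a + m)
  FilK_top : FilK (k + 1) = ⊥
  op : I → K →ₗ[P] K
  op_mem : ∀ i m v, v ∈ FilK m → op i v ∈ FilK m

attribute [instance] FD.crP FD.alP FD.acK FD.mRK FD.mPK FD.stK

namespace FD

variable {R : Type u} [CommRing R] {I : Type} (X : FD R I)

theorem FilK_le {m n : ℕ} (h : m ≤ n) : X.FilK n ≤ X.FilK m := by
  induction n, h using Nat.le_induction with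
  | base => exact le_rfl
  | succ n _ ih => exact (X.FilK_succ n).trans ih

theorem Fil_le {m n : ℕ} (h : m ≤ n) : X.Fil n ≤ X.Fil m := by
  induction n, h using Nat.le_induction with
  | base => exact le_rfl
  | succ n _ ih => exact (X.Fil_succ n).trans ih

/-- commutator with (multiplication by) an element of `P` -/
def comm (x : X.P) : (X.K →ₗ[R] X.K) →ₗ[X.P] (X.K →ₗ[R] X.K) where
  toFun L := x • L - L ∘ₗ (LinearMap.lsmul X.P X.K x).restrictScalars R
  map_add' L M := by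
    ext v; simp; abel
  map_smul' a L := by
    ext v
    simp [smul_sub, smul_smul, mul_comm]

@[simp] theorem comm_apply (x : X.P) (L : X.K →ₗ[R] X.K) (v : X.K) :
    X.comm x L v = x • L v - L (x • v) := rfl

/-- operators which raise the filtration by `j` and commute with the `op i` -/
def DD0 (j : ℕ) : Submodule X.P (X.K →ₗ[R] X.K) where
  carrier := {L | (∀ m v, v ∈ X.FilK m → L v ∈ X.FilK (m + j)) ∧ ∀ i v, L (X.op i v) = X.op i (L v)}
  zero_mem' := ⟨fun m v _ => by simp, fun i v => by simp⟩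
  add_mem' := fun hL hM => ⟨fun m v hv => (X.FilK _).add_mem (hL.1 m v hv) (hM.1 m v hv),
    fun i v => by rw [LinearMap.add_apply, LinearMap.add_apply, hL.2, hM.2, map_add]⟩
  smul_mem' := fun a L hL => ⟨fun m v hv => (X.FilK _).smul_mem a (hL.1 m v hv),
    fun i v => by rw [LinearMap.smul_apply, LinearMap.smul_apply, hL.2, map_smul]⟩

theorem mem_DD0 {j : ℕ} {L : X.K →ₗ[R] X.K} : L ∈ X.DD0 j ↔
    (∀ m v, v ∈ X.FilK m → L v ∈ X.FilK (m + j)) ∧ ∀ i v, L (X.op i v) = X.op i (L v) := Iff.rfl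

/-- the condition of 4.3 for at most `c` commutators -/
def DDc : ℕ → ℕ → Submodule X.P (X.K →ₗ[R] X.K)
  | 0, j => X.DD0 j
  | c + 1, j => X.DD0 j ⊓ ⨅ x : X.P, (DDc c (j + 1)).comap (X.comm x)

/-- `DD^(j)` of 4.3 -/
def DD (j : ℕ) : Submodule X.P (X.K →ₗ[R] X.K) := ⨅ c, X.DDc c j

theorem mem_DDc_succ {c j : ℕ} {L : X.K →ₗ[R] X.K} : L ∈ X.DDc (c + 1) j ↔
    L ∈ X.DD0 j ∧ ∀ x, X.comm x L ∈ X.DDc c (j + 1) := by
  simp [DDc, Submodule.mem_inf, Submodule.mem_iInf]

theorem mem_DD {j : ℕ} {L : X.K →ₗ[R] X.K} : L ∈ X.DD j ↔ ∀ c, L ∈ X.DDc c j := by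
  simp [DD, Submodule.mem_iInf]

theorem mem_DD_iff {j : ℕ} {L : X.K →ₗ[R] X.K} : L ∈ X.DD j ↔
    L ∈ X.DD0 j ∧ ∀ x, X.comm x L ∈ X.DD (j + 1) := by
  constructor
  · intro h
    rw [mem_DD] at h
    refine ⟨h 0, fun x => ?_⟩
    rw [mem_DD]
    exact fun c => (X.mem_DDc_succ.1 (h (c + 1))).2 x
  · rintro ⟨h0, h1⟩
    rw [mem_DD]
    intro c
    cases c with
    | zero => exact h0
    | succ c => exact X.mem_DDc_succ.2 ⟨h0, fun x => X.mem_DD.1 (h1 x) c⟩

theorem DD_le_DD0 (j : ℕ) : X.DD j ≤ X.DD0 j := fun _ h => (X.mem_DD_iff.1 h).1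

theorem DDc_succ_le (c j : ℕ) : X.DDc c (j + 1) ≤ X.DDc c j := by
  induction c generalizing j with
  | zero =>
    intro L hL
    exact ⟨fun m v hv => X.FilK_le (by omega) (hL.1 m v hv), hL.2⟩
  | succ c ih =>
    intro L hL
    rw [mem_DDc_succ] at hL ⊢
    exact ⟨⟨fun m v hv => X.FilK_le (by omega) (hL.1.1 m v hv), hL.1.2⟩,
      fun x => ih _ (hL.2 x)⟩

theorem DD_succ_le (j : ℕ) : X.DD (j + 1) ≤ X.DD j := by
  intro L hL
  rw [mem_DD] at hL ⊢
  exact fun c => X.DDc_succ_le c j (hL c)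

theorem DD_le {i j : ℕ} (h : i ≤ j) : X.DD j ≤ X.DD i := by
  induction j, h using Nat.le_induction with
  | base => exact le_rfl
  | succ n _ ih => exact (X.DD_succ_le n).trans ih

theorem DD_top {L : X.K →ₗ[R] X.K} (h : L ∈ X.DD (X.k + 1)) : L = 0 := by
  ext v
  have := (X.DD_le_DD0 _ h).1 0 v (by rw [X.FilK_zero]; trivial)
  rw [zero_add, X.FilK_top, Submodule.mem_bot] at this
  rw [this, LinearMap.zero_apply]

theorem comm_comp (x : X.P) (L M : X.K →ₗ[R] X.K) :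
    X.comm x (L ∘ₗ M) = X.comm x L ∘ₗ M + L ∘ₗ X.comm x M := by
  ext v
  simp

theorem DD0_comp {i j : ℕ} {L M : X.K →ₗ[R] X.K} (hL : L ∈ X.DD0 i) (hM : M ∈ X.DD0 j) :
    L ∘ₗ M ∈ X.DD0 (i + j) := by
  refine ⟨fun m v hv => ?_, fun a v => ?_⟩
  · have := hL.1 _ _ (hM.1 m v hv)
    rw [LinearMap.comp_apply]
    exact X.FilK_le (by omega) this
  · rw [LinearMap.comp_apply, LinearMap.comp_apply, hM.2, hL.2]

/-- 4.3 (a) -/
theorem DD_comp {i j : ℕ} {L M : X.K →ₗ[R] X.K} (hL : L ∈ X.DD i) (hM : M ∈ X.DD j) :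
    L ∘ₗ M ∈ X.DD (i + j) := by
  rw [mem_DD]
  intro c
  induction c generalizing i j L M with
  | zero => exact X.DD0_comp (X.DD_le_DD0 _ hL) (X.DD_le_DD0 _ hM)
  | succ c ih =>
    rw [mem_DDc_succ]
    refine ⟨X.DD0_comp (X.DD_le_DD0 _ hL) (X.DD_le_DD0 _ hM), fun x => ?_⟩
    rw [comm_comp]
    have h1 := ih ((X.mem_DD_iff.1 hL).2 x) hM
    have h2 := ih hL ((X.mem_DD_iff.1 hM).2 x)
    rw [show i + 1 + j = i + j + 1 by omega] at h1
    exact (X.DDc c _).add_mem h1 h2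

theorem comm_smul (x y : X.P) (L : X.K →ₗ[R] X.K) : X.comm x (y • L) = y • X.comm x L :=
  (X.comm x).map_smul y L

/-- 4.3 (d), `Fil^a P . DD^(j) c DD^(a+j)` -/
theorem smul_mem_DD {a j : ℕ} {y : X.P} (hy : y ∈ X.Fil a) {L : X.K →ₗ[R] X.K}
    (hL : L ∈ X.DD j) : y • L ∈ X.DD (a + j) := by
  rw [mem_DD]
  intro c
  have h0 : ∀ (j : ℕ) (L : X.K →ₗ[R] X.K), L ∈ X.DD j → y • L ∈ X.DD0 (a + j) := by
    intro j L hL
    refine ⟨fun m v hv => ?_, fun i v => ?_⟩
    · have := X.FilK_smul a _ y _ hy ((X.DD_le_DD0 _ hL).1 m v hv)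
      rw [LinearMap.smul_apply]
      exact X.FilK_le (by omega) this
    · rw [LinearMap.smul_apply, LinearMap.smul_apply, (X.DD_le_DD0 _ hL).2, map_smul]
  induction c generalizing j L with
  | zero => exact h0 j L hL
  | succ c ih =>
    rw [mem_DDc_succ]
    refine ⟨h0 j L hL, fun x => ?_⟩
    rw [comm_smul]
    have := ih ((X.mem_DD_iff.1 hL).2 x)
    rwa [show a + (j + 1) = a + j + 1 by omega] at this

/-- the nilpotent filtration of the ring `End_R K` by `F n = DD^(n+1)` -/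
def nfil : NFil (Module.End R X.K) where
  F n := (X.DD (n + 1)).toAddSubgroup
  anti n _ h := X.DD_succ_le _ h
  mul m n L M hL hM := by
    have := X.DD_comp hL hM
    change (L ∘ₗ M) ∈ X.DD (m + n + 1 + 1)
    rwa [show m + 1 + (n + 1) = m + n + 1 + 1 by omega] at this
  k := X.k
  top L h := X.DD_top h

theorem mem_nfil {n : ℕ} {L : Module.End R X.K} : L ∈ X.nfil.F n ↔ L ∈ X.DD (n + 1) := Iff.rfl

end FD

/-- semilinear filtered isomorphisms compatible with the operators -/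
structure FD.SIso {R : Type u} [CommRing R] {I : Type} (X Y : FD R I) where
  φ : X.P ≃ₐ[R] Y.P
  ψ : X.K ≃ₗ[R] Y.K
  semi : ∀ (x : X.P) (v : X.K), ψ (x • v) = φ x • ψ v
  fil : ∀ m v, v ∈ X.FilK m ↔ ψ v ∈ Y.FilK m
  filP : ∀ m x, x ∈ X.Fil m ↔ φ x ∈ Y.Fil m
  opc : ∀ i v, ψ (X.op i v) = Y.op i (ψ v)

namespace FD.SIso

variable {R : Type u} [CommRing R] {I : Type} {X Y Z : FD R I}

/-- identity -/
def refl (X : FD R I) : SIso X X :=
  ⟨AlgEquiv.refl, LinearEquiv.refl R X.K, fun _ _ => rfl, fun _ _ => Iff.rfl, fun _ _ => Iff.rfl,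
    fun _ _ => rfl⟩

/-- composition -/
def trans (s : SIso X Y) (t : SIso Y Z) : SIso X Z where
  φ := s.φ.trans t.φ
  ψ := s.ψ.trans t.ψ
  semi x v := by simp [s.semi, t.semi]
  fil m v := by rw [s.fil, t.fil]; rfl
  filP m x := by rw [s.filP, t.filP]; rfl
  opc i v := by simp [s.opc, t.opc]

/-- inverse -/
def symm (s : SIso X Y) : SIso Y X where
  φ := s.φ.symm
  ψ := s.ψ.symm
  semi x v := by
    apply s.ψ.injective
    rw [s.semi]; simp
  fil m v := by rw [s.fil]; simp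
  filP m x := by rw [s.filP]; simp
  opc i v := by
    apply s.ψ.injective
    rw [s.opc]; simp

/-- conjugation with a semilinear isomorphism -/
theorem conj_mem {j : ℕ} (s : SIso X Y) {L : X.K →ₗ[R] X.K} (hL : L ∈ X.DD j) :
    s.ψ.conj L ∈ Y.DD j := by
  rw [mem_DD]
  intro c
  have h0 : ∀ (j : ℕ) (L : X.K →ₗ[R] X.K), L ∈ X.DD j → s.ψ.conj L ∈ Y.DD0 j := by
    intro j L hL
    refine ⟨fun m v hv => ?_, fun i v => ?_⟩
    · rw [LinearEquiv.conj_apply_apply, ← s.fil]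
      apply (X.DD_le_DD0 _ hL).1
      rw [s.fil, LinearEquiv.apply_symm_apply]
      exact hv
    · rw [LinearEquiv.conj_apply_apply, LinearEquiv.conj_apply_apply, ← s.opc,
        ← (X.DD_le_DD0 _ hL).2]
      congr 2
      apply s.ψ.injective
      rw [s.opc, LinearEquiv.apply_symm_apply, LinearEquiv.apply_symm_apply]
  induction c generalizing j L with
  | zero => exact h0 j L hL
  | succ c ih =>
    rw [mem_DDc_succ]
    refine ⟨h0 j L hL, fun y => ?_⟩
    have h1 : Y.comm y (s.ψ.conj L) = s.ψ.conj (X.comm (s.φ.symm y) L) := by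
      ext v
      simp only [comm_apply, LinearEquiv.conj_apply_apply, map_sub, s.semi,
        AlgEquiv.apply_symm_apply]
      congr 3
      apply s.ψ.injective
      simp [s.semi]
    rw [h1]
    exact ih ((X.mem_DD_iff.1 hL).2 _)

theorem conj_smul (s : SIso X Y) (x : X.P) (L : X.K →ₗ[R] X.K) :
    s.ψ.conj (x • L) = s.φ x • s.ψ.conj L := by
  ext v
  simp [LinearEquiv.conj_apply_apply, s.semi]

/-- 4.3 (b): a semilinear automorphism which is close to the identity lies in `1 + DD^(1)` -/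
theorem sub_one_mem (s : SIso X X) (h1 : ∀ x, s.φ x - x ∈ X.Fil 2)
    (h2 : ∀ m v, v ∈ X.FilK m → s.ψ v - v ∈ X.FilK (m + 1)) :
    (s.ψ : X.K →ₗ[R] X.K) - LinearMap.id ∈ X.DD 1 := by
  have key : ∀ (c b : ℕ) (a : X.P), a ∈ X.Fil b → a • (s.ψ : X.K →ₗ[R] X.K) ∈ X.DDc c b := by
    intro c
    have h0 : ∀ (b : ℕ) (a : X.P), a ∈ X.Fil b → a • (s.ψ : X.K →ₗ[R] X.K) ∈ X.DD0 b := by
      intro b a ha
      refine ⟨fun m v hv => ?_, fun i v => ?_⟩
      · have := X.FilK_smul b m a _ ha ((s.fil m v).1 hv)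
        exact X.FilK_le (by omega) this
      · simp [s.opc]
    induction c with
    | zero => exact h0
    | succ c ih =>
      intro b a ha
      rw [mem_DDc_succ]
      refine ⟨h0 b a ha, fun x => ?_⟩
      have h3 : X.comm x (a • (s.ψ : X.K →ₗ[R] X.K)) =
          (a * (x - s.φ x)) • (s.ψ : X.K →ₗ[R] X.K) := by
        ext v
        simp [s.semi, sub_smul, mul_smul, smul_sub, smul_comm x a]
      rw [h3]
      apply ih
      have h4 : x - s.φ x ∈ X.Fil 1 := by
        have := (X.Fil 2).neg_mem (h1 x)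
        rw [neg_sub] at this
        exact X.Fil_succ 1 this
      exact X.Fil_mul b 1 _ _ ha h4
  rw [mem_DD_iff]
  refine ⟨⟨fun m v hv => h2 m v hv, fun i v => by simp [s.opc]⟩, fun x => ?_⟩
  have h3 : X.comm x ((s.ψ : X.K →ₗ[R] X.K) - LinearMap.id) =
      (x - s.φ x) • (s.ψ : X.K →ₗ[R] X.K) := by
    ext v
    simp [s.semi, sub_smul, smul_sub]
  rw [h3, mem_DD]
  intro c
  apply key
  have := (X.Fil 2).neg_mem (h1 x)
  rwa [neg_sub] at this

end FD.SIso

end Groth.Agent.ResProp.EF.K734
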