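import Mathlib
import Groth.Agent.ResProp.EF.K734.Ops

/-!
# G4: the Koszul complex `KK = K(u)/Fil^(k+1)` as an `FD`, and lifts (4.2)

`KA = ExteriorAlgebra P M`, differential = contraction with `u`.
-/

set_option autoImplicit false

universe u v

namespace Groth.Agent.ResProp.EF.K734

open CliffordAlgebra

/-! ### semilinear functoriality of the exterior algebra -/

section Functor

variable {P P' : Type u} [CommRing P] [CommRing P'] {M M' : Type v} [AddCommGroup M]
  [AddCommGroup M'] [Module P M] [Module P' M']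

/-- the ring homomorphism `ExteriorAlgebra P M → ExteriorAlgebra P' M'` of a semilinear map -/
noncomputable def kmap (φ : P →+* P') (ε : M →ₛₗ[φ] M') :
    ExteriorAlgebra P M →+* ExteriorAlgebra P' M' :=
  letI : Algebra P (ExteriorAlgebra P' M') :=
    ((algebraMap P' (ExteriorAlgebra P' M')).comp φ).toAlgebra'
      (fun c x => Algebra.commutes (φ c) x)
  (ExteriorAlgebra.lift P (A := ExteriorAlgebra P' M')
    ⟨{ toFun := fun v => ExteriorAlgebra.ι P' (ε v)
       map_add' := fun v w => by rw [map_add, map_add]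
       map_smul' := fun x v => by
        rw [ε.map_smulₛₗ, map_smul]
        exact (Algebra.smul_def (φ x) (ExteriorAlgebra.ι P' (ε v))) },
      fun v => ExteriorAlgebra.ι_sq_zero (R := P') (ε v)⟩ :
    ExteriorAlgebra P M →ₐ[P] ExteriorAlgebra P' M').toRingHom

theorem kmap_algebraMap (φ : P →+* P') (ε : M →ₛₗ[φ] M') (x : P) :
    kmap φ ε (algebraMap P _ x) = algebraMap P' _ (φ x) := by
  let _ : Algebra P (ExteriorAlgebra P' M') :=
    ((algebraMap P' (ExteriorAlgebra P' M')).comp φ).toAlgebra'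
      (fun c x => Algebra.commutes (φ c) x)
  exact AlgHom.commutes (ExteriorAlgebra.lift P (A := ExteriorAlgebra P' M') _) x

theorem kmap_ι (φ : P →+* P') (ε : M →ₛₗ[φ] M') (v : M) :
    kmap φ ε (ExteriorAlgebra.ι P v) = ExteriorAlgebra.ι P' (ε v) := by
  let _ : Algebra P (ExteriorAlgebra P' M') :=
    ((algebraMap P' (ExteriorAlgebra P' M')).comp φ).toAlgebra'
      (fun c x => Algebra.commutes (φ c) x)
  exact ExteriorAlgebra.lift_ι_apply P (A := ExteriorAlgebra P' M') _ _ v

theorem kmap_smul (φ : P →+* P') (ε : M →ₛₗ[φ] M') (x : P) (z : ExteriorAlgebra P M) :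
    kmap φ ε (x • z) = φ x • kmap φ ε z := by
  rw [Algebra.smul_def, map_mul, kmap_algebraMap, Algebra.smul_def]

/-- two ring homomorphisms out of an exterior algebra agree if they agree on generators -/
theorem ringHom_ext {A : Type*} [Ring A] {f g : ExteriorAlgebra P M →+* A}
    (h1 : ∀ x, f (algebraMap P _ x) = g (algebraMap P _ x))
    (h2 : ∀ v, f (ExteriorAlgebra.ι P v) = g (ExteriorAlgebra.ι P v)) (z : ExteriorAlgebra P M) :
    f z = g z := by
  induction z using ExteriorAlgebra.induction with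
  | algebraMap r => exact h1 r
  | ι x => exact h2 x
  | mul a b ha hb => rw [map_mul, map_mul, ha, hb]
  | add a b ha hb => rw [map_add, map_add, ha, hb]

/-- the semilinear isomorphism of exterior algebras -/
noncomputable def kequiv (φ : P ≃+* P') (ε : M →ₛₗ[φ.toRingHom] M')
    (ε' : M' →ₛₗ[φ.symm.toRingHom] M) (h : ∀ v, ε' (ε v) = v) (h' : ∀ v, ε (ε' v) = v) :
    ExteriorAlgebra P M ≃+* ExteriorAlgebra P' M' :=
  RingEquiv.ofRingHom (kmap φ.toRingHom ε) (kmap φ.symm.toRingHom ε')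
    (by
      ext z
      refine ringHom_ext (f := (kmap φ.toRingHom ε).comp (kmap φ.symm.toRingHom ε'))
        (g := RingHom.id _) (fun x => ?_) (fun v => ?_) z
      · change kmap φ.toRingHom ε (kmap φ.symm.toRingHom ε' _) = algebraMap P' _ x
        rw [kmap_algebraMap, kmap_algebraMap]
        exact congrArg _ (φ.apply_symm_apply x)
      · change kmap φ.toRingHom ε (kmap φ.symm.toRingHom ε' _) = ExteriorAlgebra.ι P' v
        rw [kmap_ι, kmap_ι, h'])
    (by
      ext z
      refine ringHom_ext (f := (kmap φ.symm.toRingHom ε').comp (kmap φ.toRingHom ε))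
        (g := RingHom.id _) (fun x => ?_) (fun v => ?_) z
      · change kmap φ.symm.toRingHom ε' (kmap φ.toRingHom ε _) = algebraMap P _ x
        rw [kmap_algebraMap, kmap_algebraMap]
        exact congrArg _ (φ.symm_apply_apply x)
      · change kmap φ.symm.toRingHom ε' (kmap φ.toRingHom ε _) = ExteriorAlgebra.ι P v
        rw [kmap_ι, kmap_ι, h])

theorem kequiv_apply (φ : P ≃+* P') (ε : M →ₛₗ[φ.toRingHom] M')
    (ε' : M' →ₛₗ[φ.symm.toRingHom] M) (h : ∀ v, ε' (ε v) = v) (h' : ∀ v, ε (ε' v) = v)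
    (z : ExteriorAlgebra P M) : kequiv φ ε ε' h h' z = kmap φ.toRingHom ε z := rfl

theorem kequiv_symm_apply (φ : P ≃+* P') (ε : M →ₛₗ[φ.toRingHom] M')
    (ε' : M' →ₛₗ[φ.symm.toRingHom] M) (h : ∀ v, ε' (ε v) = v) (h' : ∀ v, ε (ε' v) = v)
    (z : ExteriorAlgebra P' M') :
    (kequiv φ ε ε' h h').symm z = kmap φ.symm.toRingHom ε' z := rfl

/-- the Koszul differential -/
noncomputable def kd (w : Module.Dual P M) : ExteriorAlgebra P M →ₗ[P] ExteriorAlgebra P M :=
  contractLeft (Q := (0 : QuadraticForm P M)) w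

theorem kd_algebraMap (w : Module.Dual P M) (x : P) : kd w (algebraMap P _ x) = 0 :=
  contractLeft_algebraMap (Q := (0 : QuadraticForm P M)) (d := w) x

theorem kd_ι_mul (w : Module.Dual P M) (v : M) (z : ExteriorAlgebra P M) :
    kd w (ExteriorAlgebra.ι P v * z) = w v • z - ExteriorAlgebra.ι P v * kd w z :=
  contractLeft_ι_mul (Q := (0 : QuadraticForm P M)) (d := w) v z

theorem kd_kd (w : Module.Dual P M) (z : ExteriorAlgebra P M) : kd w (kd w z) = 0 :=
  contractLeft_contractLeft (Q := (0 : QuadraticForm P M)) (d := w) z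

theorem left_ind {C : ExteriorAlgebra P M → Prop} (h0 : ∀ x, C (algebraMap P _ x))
    (h1 : ∀ y z, C y → C z → C (y + z)) (h2 : ∀ v z, C z → C (ExteriorAlgebra.ι P v * z))
    (z : ExteriorAlgebra P M) : C z := by
  induction z using CliffordAlgebra.left_induction with
  | algebraMap r => exact h0 r
  | add x y hx hy => exact h1 x y hx hy
  | ι_mul x m hx => exact h2 m x hx

theorem kmap_kd (φ : P →+* P') (ε : M →ₛₗ[φ] M') (w : Module.Dual P M) (w' : Module.Dual P' M')
    (h : ∀ v, w' (ε v) = φ (w v)) (z : ExteriorAlgebra P M) :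
    kmap φ ε (kd w z) = kd w' (kmap φ ε z) := by
  induction z using left_ind with
  | h0 x => rw [kd_algebraMap, map_zero, kmap_algebraMap, kd_algebraMap]
  | h1 y z hy hz => rw [map_add, map_add, map_add, map_add, hy, hz]
  | h2 v z hz =>
    rw [kd_ι_mul, map_sub, kmap_smul, map_mul, map_mul, kmap_ι, kd_ι_mul, h, hz]

/-- the projection to the degree `i` part -/
noncomputable def kproj (i : ℕ) : ExteriorAlgebra P M →ₗ[P] ExteriorAlgebra P M :=
  GradedAlgebra.proj (fun i : ℕ => ⋀[P]^i M) i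

theorem kproj_algebraMap (i : ℕ) (x : P) :
    kproj (P := P) (M := M) i (algebraMap P (ExteriorAlgebra P M) x) =
      if i = 0 then algebraMap P (ExteriorAlgebra P M) x else 0 := by
  have hx : algebraMap P (ExteriorAlgebra P M) x ∈ ⋀[P]^0 M := by
    change _ ∈ (LinearMap.range (ExteriorAlgebra.ι P (M := M))) ^ 0
    rw [pow_zero]
    exact Submodule.algebraMap_mem x
  rw [kproj, GradedAlgebra.proj_apply, DirectSum.decompose_of_mem (fun i : ℕ => ⋀[P]^i M) hx]
  by_cases h : i = 0
  · subst h; simp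
  · rw [if_neg h, DirectSum.of_eq_of_ne _ _ _ h]; simp

theorem kproj_ι_mul_zero (v : M) (z : ExteriorAlgebra P M) :
    kproj 0 (ExteriorAlgebra.ι P v * z) = 0 := by
  have hv : ExteriorAlgebra.ι P v ∈ ⋀[P]^1 M := by
    change _ ∈ (LinearMap.range (ExteriorAlgebra.ι P (M := M))) ^ 1
    rw [pow_one]; exact ⟨v, rfl⟩
  rw [kproj, GradedAlgebra.proj_apply]
  exact DirectSum.coe_decompose_mul_of_left_mem_of_not_le (𝒜 := fun i : ℕ => ⋀[P]^i M) hv (by omega)

theorem kproj_ι_mul_succ (i : ℕ) (v : M) (z : ExteriorAlgebra P M) :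
    kproj (i + 1) (ExteriorAlgebra.ι P v * z) = ExteriorAlgebra.ι P v * kproj i z := by
  have hv : ExteriorAlgebra.ι P v ∈ ⋀[P]^1 M := by
    change _ ∈ (LinearMap.range (ExteriorAlgebra.ι P (M := M))) ^ 1
    rw [pow_one]; exact ⟨v, rfl⟩
  rw [kproj, kproj, GradedAlgebra.proj_apply, GradedAlgebra.proj_apply, add_comm]
  exact DirectSum.coe_decompose_mul_add_of_left_mem (𝒜 := fun i : ℕ => ⋀[P]^i M) hv

theorem kmap_kproj (φ : P →+* P') (ε : M →ₛₗ[φ] M') (z : ExteriorAlgebra P M) (i : ℕ) :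
    kmap φ ε (kproj i z) = kproj i (kmap φ ε z) := by
  induction z using left_ind generalizing i with
  | h0 x =>
    rw [kproj_algebraMap, kmap_algebraMap, kproj_algebraMap]
    split_ifs
    · rw [kmap_algebraMap]
    · rw [map_zero]
  | h1 y z hy hz => rw [map_add, map_add, map_add, map_add, hy, hz]
  | h2 v z hz =>
    cases i with
    | zero => rw [kproj_ι_mul_zero, map_mul, kmap_ι, kproj_ι_mul_zero, map_zero]
    | succ i => rw [kproj_ι_mul_succ, map_mul, map_mul, kmap_ι, kproj_ι_mul_succ, hz]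

/-- `kmap` commutes with the projections; the differential has degree `-1` -/
theorem kproj_kd (w : Module.Dual P M) (z : ExteriorAlgebra P M) (i : ℕ) :
    kproj i (kd w z) = kd w (kproj (i + 1) z) := by
  induction z using left_ind generalizing i with
  | h0 x => rw [kd_algebraMap, map_zero, kproj_algebraMap, if_neg (by omega), map_zero]
  | h1 y z hy hz => rw [map_add, map_add, map_add, map_add, hy, hz]
  | h2 v z hz =>
    rw [kd_ι_mul, map_sub, map_smul, kproj_ι_mul_succ, kd_ι_mul]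
    cases i with
    | zero =>
      rw [kproj_ι_mul_zero]
      have : kd w (kproj 0 z) = 0 := by
        clear hz
        induction z using left_ind with
        | h0 x => rw [kproj_algebraMap, if_pos rfl, kd_algebraMap]
        | h1 y z hy hz => rw [map_add, map_add, hy, hz, add_zero]
        | h2 v z hz => rw [kproj_ι_mul_zero, map_zero]
      rw [this, mul_zero]
    | succ i => rw [kproj_ι_mul_succ, hz]

end Functor

/-! ### filtrations -/

/-- a multiplicative filtration by ideals -/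
structure MFil (P : Type u) [CommRing P] where
  F : ℕ → Ideal P
  zero : F 0 = ⊤
  succ : ∀ n, F (n + 1) ≤ F n
  mul : ∀ m n x y, x ∈ F m → y ∈ F n → x * y ∈ F (m + n)

theorem MFil.le {P : Type u} [CommRing P] (F : MFil P) {m n : ℕ} (h : m ≤ n) : F.F n ≤ F.F m := by
  induction n, h using Nat.le_induction with
  | base => exact le_rfl
  | succ n _ ih => exact (F.succ n).trans ih

/-- a compatible filtration of a module -/
structure MFilM {P : Type u} [CommRing P] (F : MFil P) (M : Type v) [AddCommGroup M]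
    [Module P M] where
  G : ℕ → Submodule P M
  zero : G 0 = ⊤
  succ : ∀ n, G (n + 1) ≤ G n
  smul : ∀ m n (x : P) (v : M), x ∈ F.F m → v ∈ G n → x • v ∈ G (m + n)

section FilA

variable {P : Type u} [CommRing P] (F : MFil P) {M : Type v} [AddCommGroup M] [Module P M]
  (G : MFilM F M)

/-- the filtration of the exterior algebra: generated by `x ι(v_1) .. ι(v_r)` -/
inductive IsF : ℕ → ExteriorAlgebra P M → Prop
  | zero (m : ℕ) : IsF m 0
  | add (m : ℕ) (y z : ExteriorAlgebra P M) : IsF m y → IsF m z → IsF m (y + z)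
  | alg (m : ℕ) (x : P) : x ∈ F.F m → IsF m (algebraMap P _ x)
  | ι_mul (b m : ℕ) (v : M) (z : ExteriorAlgebra P M) : v ∈ G.G b → IsF m z →
      IsF (b + m) (ExteriorAlgebra.ι P v * z)
  | down (m : ℕ) (z : ExteriorAlgebra P M) : IsF (m + 1) z → IsF m z

variable {F G}

theorem IsF.le {m n : ℕ} (h : m ≤ n) {z : ExteriorAlgebra P M} (hz : IsF F G n z) :
    IsF F G m z := by
  induction n, h using Nat.le_induction with
  | base => exact hz
  | succ n _ ih => exact ih (IsF.down _ _ hz)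

theorem IsF.smul {a m : ℕ} {x : P} (hx : x ∈ F.F a) {z : ExteriorAlgebra P M} (hz : IsF F G m z) :
    IsF F G (a + m) (x • z) := by
  induction hz with
  | zero m => rw [smul_zero]; exact IsF.zero _
  | add m y z _ _ hy hz => rw [smul_add]; exact IsF.add _ _ _ hy hz
  | alg m y hy =>
    rw [Algebra.smul_def, ← map_mul]
    exact IsF.alg _ _ (F.mul _ _ _ _ hx hy)
  | ι_mul b m v z hv _ hz =>
    rw [← mul_smul_comm, ← add_assoc, add_comm a b, add_assoc]
    exact IsF.ι_mul _ _ _ _ hv hz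
  | down m z _ hz => exact IsF.down _ _ hz

theorem IsF.smul' {m : ℕ} (x : P) {z : ExteriorAlgebra P M} (hz : IsF F G m z) :
    IsF F G m (x • z) := by
  have := IsF.smul (F := F) (G := G) (a := 0) (x := x) (by rw [F.zero]; trivial) hz
  rwa [zero_add] at this

theorem isF_zero (z : ExteriorAlgebra P M) : IsF F G 0 z := by
  induction z using left_ind with
  | h0 x => exact IsF.alg _ _ (by rw [F.zero]; trivial)
  | h1 y z hy hz => exact IsF.add _ _ _ hy hz
  | h2 v z hz => exact IsF.ι_mul 0 0 v z (by rw [G.zero]; trivial) hz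

variable (F G)

/-- `Fil^m` of the exterior algebra -/
def filA (m : ℕ) : Submodule P (ExteriorAlgebra P M) where
  carrier := {z | IsF F G m z}
  zero_mem' := IsF.zero _
  add_mem' := fun hy hz => IsF.add _ _ _ hy hz
  smul_mem' := fun x _ hz => IsF.smul' x hz

theorem mem_filA {m : ℕ} {z : ExteriorAlgebra P M} : z ∈ filA F G m ↔ IsF F G m z := Iff.rfl

theorem filA_zero : filA F G 0 = ⊤ := by
  ext z; exact ⟨fun _ => trivial, fun _ => isF_zero z⟩

theorem filA_succ (m : ℕ) : filA F G (m + 1) ≤ filA F G m := fun _ h => IsF.down _ _ h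

theorem kproj_mem {m : ℕ} {z : ExteriorAlgebra P M} (hz : z ∈ filA F G m) (i : ℕ) :
    kproj i z ∈ filA F G m := by
  rw [mem_filA] at hz ⊢
  induction hz generalizing i with
  | zero m => rw [map_zero]; exact IsF.zero _
  | add m y z _ _ hy hz => rw [map_add]; exact IsF.add _ _ _ (hy i) (hz i)
  | alg m x hx =>
    rw [kproj_algebraMap]
    split_ifs
    · exact IsF.alg _ _ hx
    · exact IsF.zero _
  | ι_mul b m v z hv _ hz =>
    cases i with
    | zero => rw [kproj_ι_mul_zero]; exact IsF.zero _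
    | succ i => rw [kproj_ι_mul_succ]; exact IsF.ι_mul _ _ _ _ hv (hz i)
  | down m z _ hz => exact IsF.down _ _ (hz i)

theorem kd_mem (w : Module.Dual P M) (hw : ∀ b v, v ∈ G.G b → w v ∈ F.F b) {m : ℕ}
    {z : ExteriorAlgebra P M} (hz : z ∈ filA F G m) : kd w z ∈ filA F G m := by
  rw [mem_filA] at hz ⊢
  induction hz with
  | zero m => rw [map_zero]; exact IsF.zero _
  | add m y z _ _ hy hz => rw [map_add]; exact IsF.add _ _ _ hy hz
  | alg m x hx => rw [kd_algebraMap]; exact IsF.zero _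
  | ι_mul b m v z hv hz' hz =>
    rw [kd_ι_mul, sub_eq_add_neg, ← mul_neg]
    refine IsF.add _ _ _ (IsF.smul (hw b v hv) hz') (IsF.ι_mul _ _ _ _ hv ?_)
    rw [← neg_one_smul P]
    exact IsF.smul' _ hz
  | down m z _ hz => exact IsF.down _ _ hz

end FilA

section FilMap

variable {P P' : Type u} [CommRing P] [CommRing P'] {M M' : Type v} [AddCommGroup M]
  [AddCommGroup M'] [Module P M] [Module P' M'] {F : MFil P} {F' : MFil P'} {G : MFilM F M}
  {G' : MFilM F' M'}

theorem kmap_mem (φ : P →+* P') (ε : M →ₛₗ[φ] M') (hφ : ∀ m x, x ∈ F.F m → φ x ∈ F'.F m)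
    (hε : ∀ m v, v ∈ G.G m → ε v ∈ G'.G m) {m : ℕ} {z : ExteriorAlgebra P M}
    (hz : z ∈ filA F G m) : kmap φ ε z ∈ filA F' G' m := by
  rw [mem_filA] at hz ⊢
  induction hz with
  | zero m => rw [map_zero]; exact IsF.zero _
  | add m y z _ _ hy hz => rw [map_add]; exact IsF.add _ _ _ hy hz
  | alg m x hx => rw [kmap_algebraMap]; exact IsF.alg _ _ (hφ _ _ hx)
  | ι_mul b m v z hv _ hz =>
    rw [map_mul, kmap_ι]; exact IsF.ι_mul _ _ _ _ (hε _ _ hv) hz
  | down m z _ hz => exact IsF.down _ _ hz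

/-- two filtered maps which are close are close on the exterior algebra -/
theorem kmap_sub_mem (φ ψ : P →+* P') (ε : M →ₛₗ[φ] M') (η : M →ₛₗ[ψ] M')
    (hφ : ∀ m x, x ∈ F.F m → φ x ∈ F'.F m)
    (hε : ∀ m v, v ∈ G.G m → ε v ∈ G'.G m)
    (hη : ∀ m v, v ∈ G.G m → η v ∈ G'.G m)
    (hφψ : ∀ m x, x ∈ F.F m → φ x - ψ x ∈ F'.F (m + 1))
    (hεη : ∀ m v, v ∈ G.G m → ε v - η v ∈ G'.G (m + 1)) {m : ℕ} {z : ExteriorAlgebra P M}
    (hz : z ∈ filA F G m) : kmap φ ε z - kmap ψ η z ∈ filA F' G' (m + 1) := by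
  rw [mem_filA] at hz ⊢
  induction hz with
  | zero m => rw [map_zero, map_zero, sub_zero]; exact IsF.zero _
  | add m y z _ _ hy hz =>
    rw [map_add, map_add, add_sub_add_comm]; exact IsF.add _ _ _ hy hz
  | alg m x hx =>
    rw [kmap_algebraMap, kmap_algebraMap, ← map_sub]; exact IsF.alg _ _ (hφψ _ _ hx)
  | ι_mul b m v z hv hz' hz =>
    rw [map_mul, map_mul, kmap_ι, kmap_ι]
    have e : ExteriorAlgebra.ι P' (ε v) * kmap φ ε z - ExteriorAlgebra.ι P' (η v) * kmap ψ η z =
        ExteriorAlgebra.ι P' (ε v - η v) * kmap φ ε z +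
          ExteriorAlgebra.ι P' (η v) * (kmap φ ε z - kmap ψ η z) := by
      rw [map_sub]; noncomm_ring
    rw [e]
    have h1 : IsF F' G' m (kmap φ ε z) := kmap_mem φ ε hφ hε hz'
    refine IsF.add _ _ _ ?_ ?_
    · have := IsF.ι_mul (b + 1) m _ _ (hεη b v hv) h1
      rwa [show b + 1 + m = b + m + 1 by omega] at this
    · have := IsF.ι_mul b (m + 1) _ _ (hη b v hv) hz
      rwa [← add_assoc] at this
  | down m z _ hz => exact IsF.down _ _ hz

end FilMap

/-! ### the `FD` of a Koszul complex -/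

section KozFD

variable {R : Type u} [CommRing R] {P : Type u} [CommRing P] [Algebra R P] (F : MFil P)
  {M : Type u} [AddCommGroup M] [Module P M] [Module R M] [IsScalarTower R P M] (G : MFilM F M)
  (w : Module.Dual P M)

/-- the truncated Koszul complex as an `FD` -/
noncomputable def kozFD (hw : ∀ b v, v ∈ G.G b → w v ∈ F.F b) (k : ℕ) : FD R (Option ℕ) where
  P := P
  K := ExteriorAlgebra P M ⧸ filA F G (k + 1)
  k := k
  Fil := F.F
  Fil_zero := F.zero
  Fil_succ := F.succ
  Fil_mul := F.mul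
  FilK m := (filA F G m).map (filA F G (k + 1)).mkQ
  FilK_zero := by rw [filA_zero, Submodule.map_top, Submodule.range_mkQ]
  FilK_succ n := Submodule.map_mono (filA_succ F G n)
  FilK_smul a m x v hx hv := by
    obtain ⟨z, hz, rfl⟩ := hv
    exact ⟨x • z, IsF.smul hx hz, by simp⟩
  FilK_top := Submodule.mkQ_map_self _
  op i := match i with
    | none => (filA F G (k + 1)).mapQ (filA F G (k + 1)) (kd w) (fun _ hz => kd_mem F G w hw hz)
    | some i => (filA F G (k + 1)).mapQ (filA F G (k + 1)) (kproj i)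
        (fun _ hz => kproj_mem F G hz i)
  op_mem i m v hv := by
    obtain ⟨z, hz, rfl⟩ := hv
    cases i with
    | none => exact ⟨kd w z, kd_mem F G w hw hz, rfl⟩
    | some i => exact ⟨kproj i z, kproj_mem F G hz i, rfl⟩

end KozFD

/-- comparison of two lifts -/
theorem FD.SIso.diff_mem {R : Type u} [CommRing R] {I : Type} {X Y : FD R I} (s t : FD.SIso X Y)
    (h1 : ∀ x, t.φ x - s.φ x ∈ Y.Fil 2)
    (h2 : ∀ m v, v ∈ X.FilK m → t.ψ v - s.ψ v ∈ Y.FilK (m + 1)) :
    ((s.symm.trans t).ψ : Y.K →ₗ[R] Y.K) - LinearMap.id ∈ Y.DD 1 := by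
  refine FD.SIso.sub_one_mem _ (fun y => ?_) (fun m v hv => ?_)
  · have := h1 (s.φ.symm y)
    rwa [AlgEquiv.apply_symm_apply] at this
  · have hv' : s.ψ.symm v ∈ X.FilK m := by
      rw [s.fil, LinearEquiv.apply_symm_apply]; exact hv
    have := h2 m _ hv'
    rwa [LinearEquiv.apply_symm_apply] at this

section Lift

variable {R : Type u} [CommRing R] {P P' : Type u} [CommRing P] [Algebra R P] [CommRing P']
  [Algebra R P'] {F : MFil P} {F' : MFil P'}
  {M M' : Type u} [AddCommGroup M] [Module P M] [Module R M] [IsScalarTower R P M]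
  [AddCommGroup M'] [Module P' M'] [Module R M'] [IsScalarTower R P' M']
  {G : MFilM F M} {G' : MFilM F' M'} {w : Module.Dual P M} {w' : Module.Dual P' M'}

variable (R F G w F' G' w') in
/-- a semilinear lift `(φ, ε)` -/
structure KLift where
  φ : P ≃+* P'
  alg : ∀ r, φ (algebraMap R P r) = algebraMap R P' r
  ε : M →ₛₗ[φ.toRingHom] M'
  ε' : M' →ₛₗ[φ.symm.toRingHom] M
  inv : ∀ v, ε' (ε v) = v
  inv' : ∀ v, ε (ε' v) = v
  hφ : ∀ m x, x ∈ F.F m → φ x ∈ F'.F m
  hφ' : ∀ m x, x ∈ F'.F m → φ.symm x ∈ F.F m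
  hε : ∀ m v, v ∈ G.G m → ε v ∈ G'.G m
  hε' : ∀ m v, v ∈ G'.G m → ε' v ∈ G.G m
  hw : ∀ v, w' (ε v) = φ (w v)

/-- the `R`-linear isomorphism of exterior algebras -/
noncomputable def KLift.lin (s : KLift R F F' G G' w w') :
    ExteriorAlgebra P M ≃ₗ[R] ExteriorAlgebra P' M' :=
  { (kequiv s.φ s.ε s.ε' s.inv s.inv').toAddEquiv with
    map_smul' := fun r z => by
      change kmap s.φ.toRingHom s.ε (r • z) = r • kmap s.φ.toRingHom s.ε z
      rw [← algebraMap_smul P r z, kmap_smul]
      change s.φ (algebraMap R P r) • _ = _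
      rw [s.alg, algebraMap_smul] }

theorem KLift.lin_apply (s : KLift R F F' G G' w w') (z : ExteriorAlgebra P M) :
    s.lin z = kmap s.φ.toRingHom s.ε z := rfl

theorem KLift.lin_symm_apply (s : KLift R F F' G G' w w') (z : ExteriorAlgebra P' M') :
    s.lin.symm z = kmap s.φ.symm.toRingHom s.ε' z := rfl

theorem KLift.lin_mem (s : KLift R F F' G G' w w') (m : ℕ) (z : ExteriorAlgebra P M) :
    z ∈ filA F G m ↔ s.lin z ∈ filA F' G' m := by
  constructor
  · intro hz
    exact kmap_mem s.φ.toRingHom s.ε s.hφ s.hε hz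
  · intro hz
    have := kmap_mem s.φ.symm.toRingHom s.ε' s.hφ' s.hε' hz
    rw [← s.lin_symm_apply, LinearEquiv.symm_apply_apply] at this
    exact this

/-- the induced isomorphism of the truncations -/
noncomputable def KLift.psi (s : KLift R F F' G G' w w') (k : ℕ) :
    (ExteriorAlgebra P M ⧸ filA F G (k + 1)) ≃ₗ[R] (ExteriorAlgebra P' M' ⧸ filA F' G' (k + 1)) :=
  (Submodule.Quotient.restrictScalarsEquiv R (filA F G (k + 1))).symm ≪≫ₗ
    Submodule.Quotient.equiv ((filA F G (k + 1)).restrictScalars R)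
      ((filA F' G' (k + 1)).restrictScalars R) s.lin (by
        ext z
        constructor
        · rintro ⟨y, hy, rfl⟩
          exact (s.lin_mem _ _).1 hy
        · intro hz
          exact ⟨s.lin.symm z, (s.lin_mem _ _).2 (by simpa using hz), by simp⟩) ≪≫ₗ
    Submodule.Quotient.restrictScalarsEquiv R (filA F' G' (k + 1))

theorem KLift.psi_mk (s : KLift R F F' G G' w w') (k : ℕ) (z : ExteriorAlgebra P M) :
    s.psi k ((filA F G (k + 1)).mkQ z) = (filA F' G' (k + 1)).mkQ (s.lin z) := rfl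

theorem KLift.psi_smul (s : KLift R F F' G G' w w') (k : ℕ) (x : P)
    (v : ExteriorAlgebra P M ⧸ filA F G (k + 1)) : s.psi k (x • v) = s.φ x • s.psi k v := by
  obtain ⟨z, rfl⟩ := Submodule.mkQ_surjective _ v
  rw [← map_smul, s.psi_mk, s.psi_mk, s.lin_apply, s.lin_apply, kmap_smul, map_smul]
  rfl

omit [Module R M] [IsScalarTower R P M] [Module R M'] [IsScalarTower R P' M'] in
theorem KLift.F_iff (s : KLift R F F' G G' w w') (m : ℕ) (x : P) :
    x ∈ F.F m ↔ s.φ x ∈ F'.F m := by
  constructor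
  · exact fun hx => s.hφ m x hx
  · intro hx
    have := s.hφ' m _ hx
    rwa [RingEquiv.symm_apply_apply] at this

/-- a lift as an `SIso` of the truncated Koszul complexes -/
noncomputable def KLift.siso (s : KLift R F F' G G' w w') (h : ∀ b v, v ∈ G.G b → w v ∈ F.F b)
    (h' : ∀ b v, v ∈ G'.G b → w' v ∈ F'.F b) (k : ℕ) :
    FD.SIso (kozFD (R := R) F G w h k) (kozFD (R := R) F' G' w' h' k) where
  φ := AlgEquiv.ofRingEquiv (f := s.φ) s.alg
  ψ := s.psi k
  semi x v := s.psi_smul k x v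
  fil m v := by
    constructor
    · rintro ⟨z, hz, rfl⟩
      exact ⟨s.lin z, (s.lin_mem _ _).1 hz, rfl⟩
    · rintro ⟨z, hz, hzv⟩
      refine ⟨s.lin.symm z, (s.lin_mem _ _).2 (by simpa using hz), ?_⟩
      apply (s.psi k).injective
      rw [s.psi_mk, LinearEquiv.apply_symm_apply]
      exact hzv
  filP m x := s.F_iff m x
  opc i v := by
    obtain ⟨z, rfl⟩ := Submodule.mkQ_surjective _ v
    cases i with
    | none =>
      change (filA F' G' (k + 1)).mkQ (kmap s.φ.toRingHom s.ε (kd w z)) =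
        (filA F' G' (k + 1)).mkQ (kd w' (kmap s.φ.toRingHom s.ε z))
      rw [kmap_kd _ _ w w' s.hw]
    | some i =>
      change (filA F' G' (k + 1)).mkQ (kmap s.φ.toRingHom s.ε (kproj i z)) =
        (filA F' G' (k + 1)).mkQ (kproj i (kmap s.φ.toRingHom s.ε z))
      rw [kmap_kproj]

/-- 4.3 (b) for Koszul complexes: two lifts of the same thing differ by `1 + DD^(1)` -/
theorem KLift.diff_mem (s t : KLift R F F' G G' w w') (h : ∀ b v, v ∈ G.G b → w v ∈ F.F b)
    (h' : ∀ b v, v ∈ G'.G b → w' v ∈ F'.F b) (k : ℕ)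
    (h1 : ∀ x, t.φ x - s.φ x ∈ F'.F 2)
    (h2 : ∀ m x, x ∈ F.F m → t.φ x - s.φ x ∈ F'.F (m + 1))
    (h3 : ∀ m v, v ∈ G.G m → t.ε v - s.ε v ∈ G'.G (m + 1)) :
    ((((s.siso h h' k).symm.trans (t.siso h h' k)).ψ :
      (kozFD (R := R) F' G' w' h' k).K →ₗ[R] (kozFD (R := R) F' G' w' h' k).K) - LinearMap.id) ∈
      (kozFD (R := R) F' G' w' h' k).DD 1 := by
  refine FD.SIso.diff_mem _ _ h1 (fun m v hv => ?_)
  obtain ⟨z, hz, rfl⟩ := hv
  have := kmap_sub_mem t.φ.toRingHom s.φ.toRingHom t.ε s.ε t.hφ t.hε s.hε h2 h3 hz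
  exact ⟨_, this, by rw [map_sub]; rfl⟩

end Lift

end Groth.Agent.ResProp.EF.K734
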