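import Mathlib
import Groth.Agent.ResProp.EF.K734.Koz

/-!
# G4 (4.2): existence of semilinear lifts of Koszul complexes, free modules with weights
-/

set_option autoImplicit false
set_option linter.unusedSectionVars false

universe u v

namespace Groth.Agent.ResProp.EF.K734

section Wt

variable {P : Type u} [CommRing P] (F : MFil P) {ι : Type} [Fintype ι] [DecidableEq ι]
  (wt : ι → ℕ)

/-- the weighted filtration of the free module -/
def wtFil : MFilM F (ι → P) where
  G m :=
    { carrier := {v | ∀ i, v i ∈ F.F (m - wt i)}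
      zero_mem' := fun i => (F.F _).zero_mem
      add_mem' := fun hv hw i => (F.F _).add_mem (hv i) (hw i)
      smul_mem' := fun x _ hv i => (F.F _).mul_mem_left x (hv i) }
  zero := by
    ext v
    refine ⟨fun _ => trivial, fun _ i => ?_⟩
    change v i ∈ F.F (0 - wt i)
    rw [Nat.zero_sub, F.zero]; trivial
  succ n v hv i := F.le (by omega) (hv i)
  smul m n x v hx hv i := by
    have := F.mul _ _ _ _ hx (hv i)
    exact F.le (by omega) this

theorem mem_wtFil {m : ℕ} {v : ι → P} : v ∈ (wtFil F wt).G m ↔ ∀ i, v i ∈ F.F (m - wt i) := Iff.rfl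

theorem single_mem {m : ℕ} {i : ι} {x : P} (hx : x ∈ F.F (m - wt i)) :
    Pi.single i x ∈ (wtFil F wt).G m := by
  intro j
  by_cases h : j = i
  · subst h; simpa using hx
  · rw [Pi.single_eq_of_ne h]; exact (F.F _).zero_mem

/-- the functional with coefficients `u` -/
def dualOf (u : ι → P) : Module.Dual P (ι → P) where
  toFun v := ∑ i, v i * u i
  map_add' v w := by simp [add_mul, Finset.sum_add_distrib]
  map_smul' x v := by simp [Finset.mul_sum, mul_assoc]

@[simp] theorem dualOf_apply (u : ι → P) (v : ι → P) : dualOf u v = ∑ i, v i * u i := rfl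

theorem dualOf_mem {u : ι → P} (hu : ∀ i, u i ∈ F.F (wt i)) (b : ℕ) (v : ι → P)
    (hv : v ∈ (wtFil F wt).G b) : dualOf u v ∈ F.F b := by
  rw [dualOf_apply]
  refine (F.F b).sum_mem fun i _ => ?_
  have := F.mul _ _ _ _ (hv i) (hu i)
  exact F.le (by omega) this

theorem wtFil_bot {N : ℕ} (hN : F.F N = ⊥) : ∃ k, (wtFil F wt).G k = ⊥ := by
  refine ⟨N + ∑ i, wt i, ?_⟩
  rw [eq_bot_iff]
  intro v hv
  rw [Submodule.mem_bot]
  ext i
  have h1 : wt i ≤ ∑ j, wt j := Finset.single_le_sum (f := wt) (fun _ _ => Nat.zero_le _)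
    (Finset.mem_univ i)
  have h2 := F.le (show N ≤ N + ∑ i, wt i - wt i by omega) (hv i)
  rw [hN] at h2
  exact h2

/-- `u` is onto `Fil^n`, `n ≥ 1`, if it is so on the graded pieces -/
theorem surj_of_gr {u : ι → P} {N : ℕ} (hN : F.F N = ⊥)
    (h : ∀ n, 1 ≤ n → ∀ x, x ∈ F.F n → ∃ v ∈ (wtFil F wt).G n, x - dualOf u v ∈ F.F (n + 1)) :
    ∀ n, 1 ≤ n → ∀ x, x ∈ F.F n → ∃ v ∈ (wtFil F wt).G n, dualOf u v = x := by
  have key : ∀ (d n : ℕ), N ≤ n + d → 1 ≤ n → ∀ x, x ∈ F.F n →
      ∃ v ∈ (wtFil F wt).G n, dualOf u v = x := by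
    intro d
    induction d with
    | zero =>
      intro n hn _ x hx
      have := F.le (show N ≤ n by omega) hx
      rw [hN] at this
      refine ⟨0, ((wtFil F wt).G n).zero_mem, ?_⟩
      rw [map_zero]; exact (Submodule.mem_bot P).1 this |>.symm
    | succ d ih =>
      intro n hn h1 x hx
      obtain ⟨v, hv, hxv⟩ := h n h1 x hx
      obtain ⟨v', hv', hxv'⟩ := ih (n + 1) (by omega) (by omega) _ hxv
      refine ⟨v + v', ((wtFil F wt).G n).add_mem hv ((wtFil F wt).succ n hv'), ?_⟩
      rw [map_add, hxv']; ring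
  intro n hn x hx
  exact key N n (by omega) hn x hx

end Wt

/-- endomorphisms raising a filtration -/
def endNFil {P : Type u} [CommRing P] {F : MFil P} {M : Type v} [AddCommGroup M] [Module P M]
    (G : MFilM F M) (k : ℕ) (hk : G.G k = ⊥) : NFil (Module.End P M) where
  F n :=
    { carrier := {L | ∀ m v, v ∈ G.G m → L v ∈ G.G (m + n + 1)}
      zero_mem' := fun m v _ => (G.G _).zero_mem
      add_mem' := fun hL hM m v hv => (G.G _).add_mem (hL m v hv) (hM m v hv)
      neg_mem' := fun hL m v hv => (G.G _).neg_mem (hL m v hv) }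
  anti n L hL m v hv := G.succ _ (hL m v hv)
  mul a b L M hL hM m v hv := by
    have h1 := hL _ _ (hM m v hv)
    have e : m + b + 1 + a + 1 = m + (a + b + 1) + 1 := by omega
    rw [e] at h1
    exact h1
  k := k
  top L hL := by
    ext v
    have h1 := hL 0 v (by rw [G.zero]; trivial)
    rw [zero_add] at h1
    have h2 := G.succ k h1
    rw [hk] at h2
    exact h2

theorem mem_endNFil {P : Type u} [CommRing P] {F : MFil P} {M : Type v} [AddCommGroup M]
    [Module P M] (G : MFilM F M) (k : ℕ) (hk : G.G k = ⊥) {n : ℕ} {L : Module.End P M} :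
    L ∈ (endNFil G k hk).F n ↔ ∀ m v, v ∈ G.G m → L v ∈ G.G (m + n + 1) := Iff.rfl

/-- coordinatewise semilinear map -/
def cmap {P P' : Type u} [CommRing P] [CommRing P'] (ι : Type) (φ : P →+* P') :
    (ι → P) →ₛₗ[φ] (ι → P') where
  toFun v i := φ (v i)
  map_add' v w := by ext i; simp
  map_smul' x v := by ext i; simp

section Exist

variable {R : Type u} [CommRing R] {P P' : Type u} [CommRing P] [Algebra R P] [CommRing P']
  [Algebra R P'] {F : MFil P} {F' : MFil P'} {ι : Type} [Fintype ι] [DecidableEq ι]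
  {wt : ι → ℕ} {u : ι → P} {u' : ι → P'}

/-- the linear map of the free module with matrix `a` (over `R`), `e_i ↦ ∑_j a_ji e_j` -/
def matL (a : Matrix ι ι R) : (ι → P') →ₗ[P'] (ι → P') where
  toFun v j := ∑ i, v i * algebraMap R P' (a j i)
  map_add' v w := by ext j; simp [add_mul, Finset.sum_add_distrib]
  map_smul' x v := by ext j; simp [Finset.mul_sum, mul_assoc]

theorem matL_apply (a : Matrix ι ι R) (v : ι → P') (j : ι) :
    matL a v j = ∑ i, v i * algebraMap R P' (a j i) := rfl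

theorem matL_mul (a b : Matrix ι ι R) :
    (matL a : (ι → P') →ₗ[P'] (ι → P')) ∘ₗ matL b = matL (a * b) := by
  ext i j
  simp only [LinearMap.comp_apply, LinearMap.single_apply, matL_apply, Matrix.mul_apply, map_sum,
    map_mul]
  simp only [Pi.single_apply, ite_mul, one_mul, zero_mul, Finset.sum_ite_eq', Finset.mem_univ,
    if_true]
  exact Finset.sum_congr rfl fun _ _ => mul_comm _ _

theorem matL_one : (matL (1 : Matrix ι ι R) : (ι → P') →ₗ[P'] (ι → P')) = LinearMap.id := by
  ext i j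
  simp [matL_apply, Matrix.one_apply, Pi.single_apply]

theorem matL_mem (a : Matrix ι ι R) (ha : ∀ i j, a i j ≠ 0 → wt i = wt j) {m : ℕ} {v : ι → P'}
    (hv : v ∈ (wtFil F' wt).G m) : matL a v ∈ (wtFil F' wt).G m := by
  intro j
  rw [matL_apply]
  refine (F'.F _).sum_mem fun i _ => ?_
  by_cases h : a j i = 0
  · rw [h, map_zero, mul_zero]; exact (F'.F _).zero_mem
  · rw [ha j i h]
    exact (F'.F _).mul_mem_right _ (hv i)

/-- 4.2: EXISTENCE OF LIFTS. -/
theorem exists_kLift (φ : P ≃+* P') (alg : ∀ r, φ (algebraMap R P r) = algebraMap R P' r)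
    (hφ : ∀ m x, x ∈ F.F m → φ x ∈ F'.F m) (hφ' : ∀ m x, x ∈ F'.F m → φ.symm x ∈ F.F m)
    (a b : Matrix ι ι R) (hab : a * b = 1) (hba : b * a = 1)
    (ha : ∀ i j, a i j ≠ 0 → wt i = wt j) (hb : ∀ i j, b i j ≠ 0 → wt i = wt j)
    (hgr : ∀ i, φ (u i) - ∑ j, algebraMap R P' (a j i) * u' j ∈ F'.F (wt i + 1))
    {N : ℕ} (hN : F'.F N = ⊥)
    (hsurj : ∀ n, 1 ≤ n → ∀ x, x ∈ F'.F n → ∃ v ∈ (wtFil F' wt).G n, dualOf u' v = x) :
    ∃ s : KLift R F F' (wtFil F wt) (wtFil F' wt) (dualOf u) (dualOf u'), s.φ = φ ∧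
      ∀ i, s.ε (Pi.single i 1) - (fun j => algebraMap R P' (a j i)) ∈
        (wtFil F' wt).G (wt i + 1) := by
  choose x hx hxu using fun i => hsurj (wt i + 1) (by omega) _ (hgr i)
  -- the perturbation
  let X : Module.End P' (ι → P') :=
    { toFun := fun v => ∑ i, v i • x i
      map_add' := fun v w => by simp [add_smul, Finset.sum_add_distrib]
      map_smul' := fun c v => by simp [Finset.smul_sum, mul_smul] }
  have hXapp : ∀ v, X v = ∑ i, v i • x i := fun _ => rfl
  have hX : ∀ m v, v ∈ (wtFil F' wt).G m → X v ∈ (wtFil F' wt).G (m + 1) := by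
    intro m v hv
    rw [hXapp]
    refine Submodule.sum_mem _ fun i _ => ?_
    intro j
    have := F'.mul _ _ _ _ (hv i) (hx i j)
    exact F'.le (by omega) this
  let A : Module.End P' (ι → P') := matL a
  let B : Module.End P' (ι → P') := matL b
  have hAB : A * B = 1 := by
    change (matL a) ∘ₗ (matL b) = _
    rw [matL_mul, hab, matL_one]; rfl
  have hBA : B * A = 1 := by
    change (matL b) ∘ₗ (matL a) = _
    rw [matL_mul, hba, matL_one]; rfl
  have hA : ∀ m v, v ∈ (wtFil F' wt).G m → A v ∈ (wtFil F' wt).G m := fun m v hv =>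
    matL_mem a ha hv
  have hB : ∀ m v, v ∈ (wtFil F' wt).G m → B v ∈ (wtFil F' wt).G m := fun m v hv =>
    matL_mem b hb hv
  obtain ⟨k, hk⟩ := wtFil_bot F' wt hN
  let NF := endNFil (wtFil F' wt) k hk
  have hBX : B * X ∈ NF.F 0 := by
    intro m v hv
    exact hB _ _ (hX m v hv)
  obtain ⟨U, hU⟩ := NF.exists_unit hBX
  have hU1 : ((U : Module.End P' (ι → P')) - 1) ∈ NF.F 0 := by
    rw [hU, add_sub_cancel_left]; exact hBX
  have hUinv := NF.inv_sub_one_mem hU1
  let T : Module.End P' (ι → P') := A + X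
  let T' : Module.End P' (ι → P') := ((U⁻¹ : (Module.End P' (ι → P'))ˣ) : Module.End P' (ι → P')) * B
  have hT : T = A * U := by
    rw [hU, mul_add, mul_one, ← mul_assoc, hAB, one_mul]
  have hTT' : T * T' = 1 := by
    change T * (_ * B) = 1
    rw [hT, mul_assoc, ← mul_assoc (U : Module.End P' (ι → P')), Units.mul_inv, one_mul, hAB]
  have hT'T : T' * T = 1 := by
    change (_ * B) * T = 1
    rw [hT, mul_assoc, ← mul_assoc B, hBA, one_mul, Units.inv_mul]
  have hTm : ∀ m v, v ∈ (wtFil F' wt).G m → T v ∈ (wtFil F' wt).G m := fun m v hv =>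
    Submodule.add_mem _ (hA m v hv) ((wtFil F' wt).succ m (hX m v hv))
  have hT'm : ∀ m v, v ∈ (wtFil F' wt).G m → T' v ∈ (wtFil F' wt).G m := by
    intro m v hv
    have h1 := hB m v hv
    have h2 := hUinv m _ h1
    have h3 : T' v = B v + (((U⁻¹ : (Module.End P' (ι → P'))ˣ) : Module.End P' (ι → P')) - 1) (B v) := by
      rw [LinearMap.sub_apply]
      change _ = B v + (T' v - B v)
      abel
    rw [h3]
    exact Submodule.add_mem _ h1 ((wtFil F' wt).succ m h2)
  refine ⟨{ φ := φ, alg := alg,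
            ε := T.comp (cmap ι φ.toRingHom)
            ε' := (cmap ι φ.symm.toRingHom).comp T'
            inv := ?_, inv' := ?_, hφ := hφ, hφ' := hφ', hε := ?_, hε' := ?_, hw := ?_ }, rfl, ?_⟩
  · intro v
    have h1 : T' (T (cmap ι φ.toRingHom v)) = cmap ι φ.toRingHom v := by
      rw [← Module.End.mul_apply, hT'T]; rfl
    change cmap ι φ.symm.toRingHom (T' (T (cmap ι φ.toRingHom v))) = v
    rw [h1]
    ext i
    exact φ.symm_apply_apply _
  · intro v
    have h1 : cmap ι φ.toRingHom (cmap ι φ.symm.toRingHom (T' v)) = T' v := by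
      ext i
      exact φ.apply_symm_apply _
    change T (cmap ι φ.toRingHom (cmap ι φ.symm.toRingHom (T' v))) = v
    rw [h1, ← Module.End.mul_apply, hTT']; rfl
  · intro m v hv
    exact hTm m _ (fun i => hφ _ _ (hv i))
  · intro m v hv i
    exact hφ' _ _ (hT'm m v hv i)
  · intro v
    change dualOf u' (T (cmap ι φ.toRingHom v)) = φ (dualOf u v)
    have h1 : ∀ v : ι → P', dualOf u' (T v) = ∑ i, v i * φ (u i) := by
      intro v
      change dualOf u' (A v + X v) = _
      rw [map_add, hXapp, map_sum]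
      simp only [map_smul, hxu, smul_eq_mul]
      rw [dualOf_apply]
      change ∑ j, (matL a v j) * u' j + _ = _
      simp only [matL_apply, Finset.sum_mul, mul_sub, Finset.sum_sub_distrib, Finset.mul_sum]
      rw [Finset.sum_comm]
      simp only [mul_assoc]
      ring
    rw [h1, dualOf_apply, map_sum]
    simp only [map_mul]
    rfl
  · intro i
    change T (cmap ι φ.toRingHom (Pi.single i 1)) - _ ∈ _
    have h1 : cmap ι φ.toRingHom (Pi.single i 1) = Pi.single i 1 := by
      ext j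
      change φ ((Pi.single i 1 : ι → P) j) = _
      by_cases h : j = i
      · subst h; simp
      · simp [h]
    rw [h1]
    have h2 : T (Pi.single i 1) = (fun j => algebraMap R P' (a j i)) + x i := by
      change A (Pi.single i 1) + X (Pi.single i 1) = _
      congr 1
      · ext j
        change matL a (Pi.single i 1) j = _
        simp [matL_apply, Pi.single_apply]
      · rw [hXapp]
        simp [Pi.single_apply]
    rw [h2, add_sub_cancel_left]
    exact hx i

omit [Fintype ι] in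
theorem sum_single' [Fintype ι] (v : ι → P) : v = ∑ i, v i • (Pi.single i 1 : ι → P) := by
  ext j
  simp [Finset.sum_apply, Pi.single_apply]

/-- closeness of two lifts can be tested on the basis vectors -/
theorem KLift.eps_close (s t : KLift R F F' (wtFil F wt) (wtFil F' wt) (dualOf u) (dualOf u'))
    (h2 : ∀ m x, x ∈ F.F m → t.φ x - s.φ x ∈ F'.F (m + 1))
    (h3 : ∀ i, t.ε (Pi.single i 1) - s.ε (Pi.single i 1) ∈ (wtFil F' wt).G (wt i + 1))
    (m : ℕ) (v : ι → P) (hv : v ∈ (wtFil F wt).G m) :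
    t.ε v - s.ε v ∈ (wtFil F' wt).G (m + 1) := by
  have e : t.ε v - s.ε v = ∑ i, (t.φ (v i) • (t.ε (Pi.single i 1) - s.ε (Pi.single i 1)) +
      (t.φ (v i) - s.φ (v i)) • s.ε (Pi.single i 1)) := by
    have h1 : t.ε v = ∑ i, t.φ (v i) • t.ε (Pi.single i 1) := by
      conv_lhs => rw [sum_single' v]
      rw [map_sum]
      exact Finset.sum_congr rfl fun i _ => t.ε.map_smulₛₗ _ _
    have h1' : s.ε v = ∑ i, s.φ (v i) • s.ε (Pi.single i 1) := by
      conv_lhs => rw [sum_single' v]
      rw [map_sum]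
      exact Finset.sum_congr rfl fun i _ => s.ε.map_smulₛₗ _ _
    rw [h1, h1', ← Finset.sum_sub_distrib]
    exact Finset.sum_congr rfl fun i _ => by rw [smul_sub, sub_smul]; abel
  rw [e]
  refine Submodule.sum_mem _ fun i _ => Submodule.add_mem _ ?_ ?_
  · have := (wtFil F' wt).smul _ _ _ _ (t.hφ _ _ (hv i)) (h3 i)
    intro j
    exact F'.le (by omega) (this j)
  · have h4 : s.ε (Pi.single i 1) ∈ (wtFil F' wt).G (wt i) := by
      refine s.hε _ _ (single_mem F wt ?_)
      rw [Nat.sub_self, F.zero]; trivial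
    have := (wtFil F' wt).smul _ _ _ _ (h2 _ _ (hv i)) h4
    intro j
    exact F'.le (by omega) (this j)

/-- 4.3 (b): two lifts with the same symbol differ by `1 + DD^(1)` -/
theorem KLift.diff_mem' (s t : KLift R F F' (wtFil F wt) (wtFil F' wt) (dualOf u) (dualOf u'))
    (hu : ∀ i, u i ∈ F.F (wt i)) (hu' : ∀ i, u' i ∈ F'.F (wt i)) (k : ℕ)
    (h1 : ∀ x, t.φ x - s.φ x ∈ F'.F 2)
    (h2 : ∀ m x, x ∈ F.F m → t.φ x - s.φ x ∈ F'.F (m + 1))
    (h3 : ∀ i, t.ε (Pi.single i 1) - s.ε (Pi.single i 1) ∈ (wtFil F' wt).G (wt i + 1)) :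
    ((((s.siso (dualOf_mem F wt hu) (dualOf_mem F' wt hu') k).symm.trans
      (t.siso (dualOf_mem F wt hu) (dualOf_mem F' wt hu') k)).ψ :
      (kozFD (R := R) F' (wtFil F' wt) (dualOf u') (dualOf_mem F' wt hu') k).K →ₗ[R] _) -
        LinearMap.id) ∈
      (kozFD (R := R) F' (wtFil F' wt) (dualOf u') (dualOf_mem F' wt hu') k).DD 1 :=
  KLift.diff_mem s t _ _ k h1 h2 (KLift.eps_close s t h2 h3)

end Exist

end Groth.Agent.ResProp.EF.K734
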