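import Mathlib
import Groth.Agent.ResProp.EF.K734.Lift

/-!
# G4, producer (Q1): the groupoid of Koszul lifts and their symbols; reindexing of the operators
-/

set_option autoImplicit false
set_option linter.unusedSectionVars false

universe u v

namespace Groth.Agent.ResProp.EF.K734

/-! ### reindexing the operators of an `FD` -/

/-- forget some operators -/
def FD.re {R : Type u} [CommRing R] {I I' : Type} (X : FD R I) (g : I' → I) : FD R I' where
  P := X.P
  K := X.K
  k := X.k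
  Fil := X.Fil
  Fil_zero := X.Fil_zero
  Fil_succ := X.Fil_succ
  Fil_mul := X.Fil_mul
  FilK := X.FilK
  FilK_zero := X.FilK_zero
  FilK_succ := X.FilK_succ
  FilK_smul := X.FilK_smul
  FilK_top := X.FilK_top
  op i := X.op (g i)
  op_mem i := X.op_mem (g i)

/-- reindexing of isomorphisms -/
def FD.SIso.re {R : Type u} [CommRing R] {I I' : Type} {X Y : FD R I} (s : FD.SIso X Y)
    (g : I' → I) : FD.SIso (X.re g) (Y.re g) where
  φ := s.φ
  ψ := s.ψ
  semi := s.semi
  fil := s.fil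
  filP := s.filP
  opc i := s.opc (g i)

/-- two `SIso`'s agree if `φ` and `ψ` agree -/
theorem FD.SIso.ext' {R : Type u} [CommRing R] {I : Type} {X Y : FD R I} {s t : FD.SIso X Y}
    (h1 : ∀ x, s.φ x = t.φ x) (h2 : ∀ v, s.ψ v = t.ψ v) : s = t := by
  cases s with
  | mk φ ψ a b c d =>
  cases t with
  | mk φ' ψ' a' b' c' d' =>
  have e1 : φ = φ' := AlgEquiv.ext h1
  have e2 : ψ = ψ' := LinearEquiv.ext h2
  subst e1
  subst e2
  rfl

/-! ### the groupoid of Koszul lifts -/

section Gpd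

variable {R : Type u} [CommRing R] {P P' P'' : Type u} [CommRing P] [Algebra R P] [CommRing P']
  [Algebra R P'] [CommRing P''] [Algebra R P''] {F : MFil P} {F' : MFil P'} {F'' : MFil P''}
  {M M' M'' : Type u} [AddCommGroup M] [Module P M] [Module R M] [IsScalarTower R P M]
  [AddCommGroup M'] [Module P' M'] [Module R M'] [IsScalarTower R P' M']
  [AddCommGroup M''] [Module P'' M''] [Module R M''] [IsScalarTower R P'' M'']
  {G : MFilM F M} {G' : MFilM F' M'} {G'' : MFilM F'' M''} {w : Module.Dual P M}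
  {w' : Module.Dual P' M'} {w'' : Module.Dual P'' M''}

/-- a semilinear map from underlying data -/
def slin {A B : Type*} [CommRing A] [CommRing B] {M N : Type*} [AddCommGroup M] [AddCommGroup N]
    [Module A M] [Module B N] (φ : A →+* B) (f : M →+ N) (h : ∀ x v, f (x • v) = φ x • f v) :
    M →ₛₗ[φ] N where
  toFun := f
  map_add' := f.map_add
  map_smul' := h

variable (R G w) in
/-- identity lift -/
def KLift.refl : KLift R F F G G w w where
  φ := RingEquiv.refl P
  alg _ := rfl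
  ε := slin _ (AddMonoidHom.id M) (fun _ _ => rfl)
  ε' := slin _ (AddMonoidHom.id M) (fun _ _ => rfl)
  inv _ := rfl
  inv' _ := rfl
  hφ _ _ h := h
  hφ' _ _ h := h
  hε _ _ h := h
  hε' _ _ h := h
  hw _ := rfl

/-- composition of lifts -/
def KLift.trans (s : KLift R F F' G G' w w') (t : KLift R F' F'' G' G'' w' w'') :
    KLift R F F'' G G'' w w'' where
  φ := s.φ.trans t.φ
  alg r := by rw [RingEquiv.trans_apply, s.alg, t.alg]
  ε := slin _ (t.ε.toAddMonoidHom.comp s.ε.toAddMonoidHom) (fun x v => by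
    change t.ε (s.ε (x • v)) = t.φ (s.φ x) • t.ε (s.ε v)
    rw [s.ε.map_smulₛₗ, t.ε.map_smulₛₗ]
    rfl)
  ε' := slin _ (s.ε'.toAddMonoidHom.comp t.ε'.toAddMonoidHom) (fun x v => by
    change s.ε' (t.ε' (x • v)) = s.φ.symm (t.φ.symm x) • s.ε' (t.ε' v)
    rw [t.ε'.map_smulₛₗ, s.ε'.map_smulₛₗ]
    rfl)
  inv v := by
    change s.ε' (t.ε' (t.ε (s.ε v))) = v
    rw [t.inv, s.inv]
  inv' v := by
    change t.ε (s.ε (s.ε' (t.ε' v))) = v
    rw [s.inv', t.inv']
  hφ m x h := t.hφ m _ (s.hφ m x h)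
  hφ' m x h := s.hφ' m _ (t.hφ' m x h)
  hε m v h := t.hε m _ (s.hε m v h)
  hε' m v h := s.hε' m _ (t.hε' m v h)
  hw v := by
    change w'' (t.ε (s.ε v)) = t.φ (s.φ (w v))
    rw [t.hw, s.hw]

/-- inverse lift -/
def KLift.symm (s : KLift R F F' G G' w w') : KLift R F' F G' G w' w where
  φ := s.φ.symm
  alg r := by rw [RingEquiv.symm_apply_eq, s.alg]
  ε := s.ε'
  ε' := slin _ s.ε.toAddMonoidHom (fun x v => s.ε.map_smulₛₗ x v)
  inv v := s.inv' v
  inv' v := s.inv v
  hφ := s.hφ'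
  hφ' m x h := s.hφ m x h
  hε := s.hε'
  hε' m v h := s.hε m v h
  hw v := by
    rw [RingEquiv.eq_symm_apply, ← s.hw, s.inv']

theorem KLift.trans_φ (s : KLift R F F' G G' w w') (t : KLift R F' F'' G' G'' w' w'') (x : P) :
    (s.trans t).φ x = t.φ (s.φ x) := rfl

theorem KLift.trans_ε (s : KLift R F F' G G' w w') (t : KLift R F' F'' G' G'' w' w'') (v : M) :
    (s.trans t).ε v = t.ε (s.ε v) := rfl

theorem kmap_comp' (φ : P →+* P') (ε : M →ₛₗ[φ] M') (φ' : P' →+* P'') (ε' : M' →ₛₗ[φ'] M'')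
    (φ'' : P →+* P'') (ε'' : M →ₛₗ[φ''] M'') (h1 : ∀ x, φ'' x = φ' (φ x))
    (h2 : ∀ v, ε'' v = ε' (ε v)) (z : ExteriorAlgebra P M) :
    kmap φ'' ε'' z = kmap φ' ε' (kmap φ ε z) := by
  refine ringHom_ext (f := kmap φ'' ε'') (g := (kmap φ' ε').comp (kmap φ ε)) (fun x => ?_)
    (fun v => ?_) z
  · change _ = kmap φ' ε' (kmap φ ε _)
    rw [kmap_algebraMap, kmap_algebraMap, kmap_algebraMap, h1]
  · change _ = kmap φ' ε' (kmap φ ε _)
    rw [kmap_ι, kmap_ι, kmap_ι, h2]

theorem kmap_id' (φ : P →+* P) (ε : M →ₛₗ[φ] M) (h1 : ∀ x, φ x = x)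
    (h2 : ∀ v, ε v = v) (z : ExteriorAlgebra P M) : kmap φ ε z = z := by
  refine ringHom_ext (f := kmap φ ε) (g := RingHom.id _) (fun x => ?_) (fun v => ?_) z
  · rw [kmap_algebraMap, h1]; rfl
  · rw [kmap_ι, h2]; rfl

variable (h : ∀ b v, v ∈ G.G b → w v ∈ F.F b) (h' : ∀ b v, v ∈ G'.G b → w' v ∈ F'.F b)
  (h'' : ∀ b v, v ∈ G''.G b → w'' v ∈ F''.F b) (k : ℕ)

theorem KLift.siso_ψ_mk (s : KLift R F F' G G' w w') (z : ExteriorAlgebra P M) :
    (s.siso h h' k).ψ ((filA F G (k + 1)).mkQ z) =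
      (filA F' G' (k + 1)).mkQ (kmap s.φ.toRingHom s.ε z) := rfl

theorem KLift.siso_refl :
    (KLift.refl R G w).siso h h k = FD.SIso.refl (kozFD (R := R) F G w h k) := by
  refine FD.SIso.ext' (fun x => rfl) (fun v => ?_)
  obtain ⟨z, rfl⟩ := Submodule.mkQ_surjective _ v
  rw [KLift.siso_ψ_mk, kmap_id' _ _ (fun _ => rfl) (fun _ => rfl)]
  rfl

theorem KLift.siso_trans (s : KLift R F F' G G' w w') (t : KLift R F' F'' G' G'' w' w'') :
    (s.trans t).siso h h'' k = (s.siso h h' k).trans (t.siso h' h'' k) := by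
  refine FD.SIso.ext' (fun x => rfl) (fun v => ?_)
  obtain ⟨z, rfl⟩ := Submodule.mkQ_surjective _ v
  rw [KLift.siso_ψ_mk]
  rw [kmap_comp' s.φ.toRingHom s.ε t.φ.toRingHom t.ε (s.trans t).φ.toRingHom (s.trans t).ε
    (fun _ => rfl) (fun _ => rfl)]
  rfl

theorem KLift.siso_symm (s : KLift R F F' G G' w w') :
    (s.symm).siso h' h k = (s.siso h h' k).symm := by
  refine FD.SIso.ext' (fun x => rfl) (fun v => ?_)
  obtain ⟨z, rfl⟩ := Submodule.mkQ_surjective _ v
  rfl

end Gpd

/-! ### symbols -/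

section Symbol

variable {R : Type u} [CommRing R] {P P' P'' : Type u} [CommRing P] [Algebra R P] [CommRing P']
  [Algebra R P'] [CommRing P''] [Algebra R P''] {F : MFil P} {F' : MFil P'} {F'' : MFil P''}
  {ι : Type} [Fintype ι] [DecidableEq ι] {wt : ι → ℕ} {u : ι → P} {u' : ι → P'} {u'' : ι → P''}

/-- weight preserving matrices -/
def WtMat (wt : ι → ℕ) (a : Matrix ι ι R) : Prop := ∀ i j, a i j ≠ 0 → wt i = wt j

/-- the lift `s` has symbol `a` -/
def KLift.HasSymbol
    (s : KLift R F F' (wtFil F wt) (wtFil F' wt) (dualOf u) (dualOf u')) (a : Matrix ι ι R) : Prop :=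
  ∀ i, s.ε (Pi.single i 1) - (fun j => algebraMap R P' (a j i)) ∈ (wtFil F' wt).G (wt i + 1)

theorem eps_sub_mem (s : KLift R F F' (wtFil F wt) (wtFil F' wt) (dualOf u) (dualOf u'))
    {a : Matrix ι ι R} (hs : s.HasSymbol a) {m : ℕ} {v : ι → P} (hv : v ∈ (wtFil F wt).G m) :
    s.ε v - matL a (fun i => s.φ (v i)) ∈ (wtFil F' wt).G (m + 1) := by
  have e : s.ε v - matL a (fun i => s.φ (v i)) =
      ∑ i, s.φ (v i) • (s.ε (Pi.single i 1) - (fun j => algebraMap R P' (a j i))) := by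
    have h1 : s.ε v = ∑ i, s.φ (v i) • s.ε (Pi.single i 1) := by
      conv_lhs => rw [sum_single' v]
      rw [map_sum]
      exact Finset.sum_congr rfl fun i _ => s.ε.map_smulₛₗ _ _
    rw [h1]
    simp only [smul_sub, Finset.sum_sub_distrib]
    congr 1
    ext j
    simp [matL_apply]
  rw [e]
  refine Submodule.sum_mem _ fun i _ => ?_
  have := (wtFil F' wt).smul _ _ _ _ (s.hφ _ _ (hv i)) (hs i)
  intro j
  exact F'.le (by omega) (this j)

theorem KLift.HasSymbol.trans
    {s : KLift R F F' (wtFil F wt) (wtFil F' wt) (dualOf u) (dualOf u')}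
    {t : KLift R F' F'' (wtFil F' wt) (wtFil F'' wt) (dualOf u') (dualOf u'')}
    {a b : Matrix ι ι R} (hs : s.HasSymbol a) (ht : t.HasSymbol b) (ha : WtMat wt a) :
    (s.trans t).HasSymbol (b * a) := by
  intro i
  rw [KLift.trans_ε]
  have h0 : (Pi.single i 1 : ι → P) ∈ (wtFil F wt).G (wt i) :=
    single_mem F wt (by rw [Nat.sub_self, F.zero]; trivial)
  -- `s.ε e_i` is the column plus an error
  have h1 := hs i
  have h2 : t.ε (s.ε (Pi.single i 1)) - t.ε (fun j => algebraMap R P' (a j i)) ∈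
      (wtFil F'' wt).G (wt i + 1) := by
    rw [← map_sub]; exact t.hε _ _ h1
  have h3 : (fun j => algebraMap R P' (a j i)) ∈ (wtFil F' wt).G (wt i) := by
    intro j
    by_cases hj : a j i = 0
    · simp only [hj, map_zero]; exact (F'.F _).zero_mem
    · rw [ha j i hj, Nat.sub_self, F'.zero]; trivial
  have h4 := eps_sub_mem t ht h3
  have h5 : matL b (fun j => t.φ (algebraMap R P' (a j i))) =
      fun l => algebraMap R P'' ((b * a) l i) := by
    ext l
    simp only [matL_apply, Matrix.mul_apply, map_sum, map_mul, t.alg]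
    exact Finset.sum_congr rfl fun _ _ => mul_comm _ _
  rw [h5] at h4
  have := ((wtFil F'' wt).G (wt i + 1)).add_mem h2 h4
  convert this using 1
  abel

theorem KLift.HasSymbol.refl : (KLift.refl R (wtFil F wt) (dualOf u)).HasSymbol 1 := by
  intro i
  have : (KLift.refl R (wtFil F wt) (dualOf u)).ε (Pi.single i 1) -
      (fun j => algebraMap R P ((1 : Matrix ι ι R) j i)) = 0 := by
    ext j
    change (Pi.single i 1 : ι → P) j - algebraMap R P ((1 : Matrix ι ι R) j i) = 0
    by_cases h : j = i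
    · subst h; simp
    · simp [h]
  rw [this]
  exact Submodule.zero_mem _

theorem KLift.HasSymbol.symm
    {s : KLift R F F' (wtFil F wt) (wtFil F' wt) (dualOf u) (dualOf u')}
    {a b : Matrix ι ι R} (hs : s.HasSymbol a) (hba : a * b = 1) (hb : WtMat wt b) :
    s.symm.HasSymbol b := by
  intro i
  -- the column of `b`, over `P`
  have h3 : (fun j => algebraMap R P (b j i)) ∈ (wtFil F wt).G (wt i) := by
    intro j
    by_cases hj : b j i = 0
    · simp only [hj, map_zero]; exact (F.F _).zero_mem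
    · rw [hb j i hj, Nat.sub_self, F.zero]; trivial
  have h4 := eps_sub_mem s hs h3
  have h5 : matL a (fun j => s.φ (algebraMap R P (b j i))) = (Pi.single i 1 : ι → P') := by
    ext l
    simp only [matL_apply, s.alg]
    have h6 : ∑ x, algebraMap R P' (b x i) * algebraMap R P' (a l x) =
        algebraMap R P' ((a * b) l i) := by
      rw [Matrix.mul_apply, map_sum]
      exact Finset.sum_congr rfl fun _ _ => by rw [map_mul, mul_comm]
    rw [h6, hba]
    by_cases h : l = i
    · subst h; simp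
    · simp [h]
  rw [h5] at h4
  have h7 := s.hε' _ _ h4
  rw [map_sub, s.inv] at h7
  change s.ε' (Pi.single i 1) - _ ∈ _
  have := Submodule.neg_mem _ h7
  rwa [neg_sub] at this

end Symbol

end Groth.Agent.ResProp.EF.K734
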