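import Mathlib
import Groth.Agent.ResProp.EF.K734.KGpd
import Groth.Agent.ResProp.EF.K224.KozCmp

/-!
# G4, producer (U2): numerical fields of the Koszul `FD` in degrees `0 ≤ i ≤ e`
-/

set_option autoImplicit false
set_option linter.unusedSectionVars false

universe u v

namespace Groth.Agent.ResProp.EF.K734

section Gen

variable {P : Type u} [CommRing P] {M : Type v} [AddCommGroup M] [Module P M]

theorem kproj_kproj (i j : ℕ) (z : ExteriorAlgebra P M) :
    kproj i (kproj j z) = if i = j then kproj i z else 0 := by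
  induction z using left_ind generalizing i j with
  | h0 x =>
    rw [kproj_algebraMap]
    by_cases hj : j = 0
    · subst hj
      rw [if_pos rfl, kproj_algebraMap]
      by_cases hi : i = 0 <;> simp [hi]
    · rw [if_neg hj, map_zero, kproj_algebraMap]
      by_cases hi : i = j
      · subst hi; simp [hj]
      · simp [hi]
  | h1 y z hy hz =>
    rw [map_add, map_add, hy, hz, map_add]
    by_cases h : i = j <;> simp [h]
  | h2 v z hz =>
    cases j with
    | zero =>
      rw [kproj_ι_mul_zero, map_zero]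
      cases i with
      | zero => simp [kproj_ι_mul_zero]
      | succ i => simp
    | succ j =>
      rw [kproj_ι_mul_succ]
      cases i with
      | zero => rw [kproj_ι_mul_zero]; simp
      | succ i =>
        rw [kproj_ι_mul_succ, kproj_ι_mul_succ, hz]
        by_cases h : i = j
        · subst h; simp
        · simp [h]

theorem kd_kproj_zero (w : Module.Dual P M) (z : ExteriorAlgebra P M) : kd w (kproj 0 z) = 0 := by
  induction z using left_ind with
  | h0 x => rw [kproj_algebraMap, if_pos rfl, kd_algebraMap]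
  | h1 y z hy hz => rw [map_add, map_add, hy, hz, add_zero]
  | h2 v z hz => rw [kproj_ι_mul_zero, map_zero]

end Gen

section Num

variable {R : Type u} [CommRing R] {P : Type u} [CommRing P] [Algebra R P] (F : MFil P) {e : ℕ}
  (G : MFilM F (Fin e → P)) (w : Module.Dual P (Fin e → P))
  (hw : ∀ b v, v ∈ G.G b → w v ∈ F.F b) (k : ℕ)

/-- the inclusion of the index sets -/
def gidx (e : ℕ) : Option (Fin (e + 1)) → Option ℕ
  | none => none
  | some i => some i

/-- the truncated Koszul complex with the projections to the degrees `0, .., e` -/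
noncomputable def kozC : FD R (Option (Fin (e + 1))) := (kozFD (R := R) F G w hw k).re (gidx e)

/-- the total module -/
abbrev KozK : Type u := ExteriorAlgebra P (Fin e → P) ⧸ filA F G (k + 1)

instance : Module.Finite P (KozK F G k) := inferInstance

/-- the differential -/
noncomputable def kozD : KozK F G k →ₗ[P] KozK F G k :=
  (kozC (R := R) F G w hw k).op none

/-- the projections -/
noncomputable def kozPr (i : Fin (e + 1)) : KozK F G k →ₗ[P] KozK F G k :=
  (kozC (R := R) F G w hw k).op (some i)

theorem kozD_mk (z : ExteriorAlgebra P (Fin e → P)) :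
    kozD (R := R) F G w hw k ((filA F G (k + 1)).mkQ z) = (filA F G (k + 1)).mkQ (kd w z) := rfl

theorem kozPr_mk (i : Fin (e + 1)) (z : ExteriorAlgebra P (Fin e → P)) :
    kozPr (R := R) F G w hw k i ((filA F G (k + 1)).mkQ z) =
      (filA F G (k + 1)).mkQ (kproj (i : ℕ) z) := rfl

theorem koz_pr_idem (i : Fin (e + 1)) :
    kozPr (R := R) F G w hw k i ∘ₗ kozPr (R := R) F G w hw k i = kozPr (R := R) F G w hw k i := by
  refine LinearMap.ext fun v => ?_
  obtain ⟨z, rfl⟩ := Submodule.mkQ_surjective _ v
  rw [LinearMap.comp_apply, kozPr_mk, kozPr_mk, kproj_kproj, if_pos rfl]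

theorem koz_pr_orth (i j : Fin (e + 1)) (hij : i ≠ j) :
    kozPr (R := R) F G w hw k i ∘ₗ kozPr (R := R) F G w hw k j = 0 := by
  refine LinearMap.ext fun v => ?_
  obtain ⟨z, rfl⟩ := Submodule.mkQ_surjective _ v
  rw [LinearMap.comp_apply, kozPr_mk, kozPr_mk, kproj_kproj,
    if_neg (fun h => hij (Fin.ext h)), map_zero, LinearMap.zero_apply]

theorem sum_kproj (z : ExteriorAlgebra P (Fin e → P)) :
    ∑ i : Fin (e + 1), kproj (i : ℕ) z = z := by
  have h := K224.Kos.sum_prK (P := P) (e := e) z
  rw [← Fin.sum_univ_eq_sum_range (fun r => K224.Kos.prK r z) (e + 1)] at h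
  rw [← h]
  refine Finset.sum_congr rfl fun i _ => ?_
  rw [h]
  exact K224.Kos.kproj_eq (i : ℕ) z

theorem koz_pr_sum (v : KozK F G k) : ∑ i, kozPr (R := R) F G w hw k i v = v := by
  obtain ⟨z, rfl⟩ := Submodule.mkQ_surjective _ v
  simp only [kozPr_mk]
  rw [← map_sum, sum_kproj]

theorem koz_d_pr (i : Fin e) (v : KozK F G k) :
    kozD (R := R) F G w hw k (kozPr (R := R) F G w hw k i.succ v) =
      kozPr (R := R) F G w hw k i.castSucc (kozD (R := R) F G w hw k v) := by
  obtain ⟨z, rfl⟩ := Submodule.mkQ_surjective _ v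
  rw [kozPr_mk, kozD_mk, kozD_mk, kozPr_mk, Fin.val_castSucc, kproj_kd, Fin.val_succ]

theorem koz_d_pr_zero (v : KozK F G k) :
    kozD (R := R) F G w hw k (kozPr (R := R) F G w hw k 0 v) = 0 := by
  obtain ⟨z, rfl⟩ := Submodule.mkQ_surjective _ v
  rw [kozPr_mk, kozD_mk, Fin.val_zero, kd_kproj_zero, map_zero]

theorem koz_d_d (v : KozK F G k) :
    kozD (R := R) F G w hw k (kozD (R := R) F G w hw k v) = 0 := by
  obtain ⟨z, rfl⟩ := Submodule.mkQ_surjective _ v
  rw [kozD_mk, kozD_mk, kd_kd, map_zero]

theorem koz_F_ker {D : Type u} [CommRing D] [Algebra R D] (π : P →ₐ[R] D)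
    (hπ : ∀ x, π x = 0 → x ∈ F.F 1) (n : ℕ) (q : P) (hq : π q = 0) (v : KozK F G k)
    (hv : v ∈ (kozC (R := R) F G w hw k).FilK n) :
    (show KozK F G k from q • v) ∈ (kozC (R := R) F G w hw k).FilK (n + 1) := by
  have := (kozFD (R := R) F G w hw k).FilK_smul 1 n q v (hπ q hq) hv
  rw [add_comm] at this
  exact this

end Num

end Groth.Agent.ResProp.EF.K734
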