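import Mathlib
import Groth.Agent.ResProp.EF.K734.KozNum

/-!
# G4, producer: the augmentation of the Koszul complex
-/

set_option autoImplicit false
set_option linter.unusedSectionVars false

universe u v

namespace Groth.Agent.ResProp.EF.K734

section Aug

variable {P : Type u} [CommRing P] {M : Type v} [AddCommGroup M] [Module P M]

theorem aInv_ι_mul (v : M) (z : ExteriorAlgebra P M) :
    ExteriorAlgebra.algebraMapInv (ExteriorAlgebra.ι P v * z) = (0 : P) := by
  rw [map_mul]
  have : ExteriorAlgebra.algebraMapInv (ExteriorAlgebra.ι P v) = (0 : P) := by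
    simp [ExteriorAlgebra.algebraMapInv]
  rw [this, zero_mul]

theorem aInv_algebraMap (x : P) :
    ExteriorAlgebra.algebraMapInv (algebraMap P (ExteriorAlgebra P M) x) = x :=
  ExteriorAlgebra.algebraMap_leftInverse M x

theorem aInv_kd {I : Ideal P} (w : Module.Dual P M) (hw : ∀ v, w v ∈ I)
    (z : ExteriorAlgebra P M) : ExteriorAlgebra.algebraMapInv (kd w z) ∈ I := by
  induction z using left_ind with
  | h0 x => rw [kd_algebraMap, map_zero]; exact I.zero_mem
  | h1 y z hy hz => rw [map_add, map_add]; exact I.add_mem hy hz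
  | h2 v z _ =>
    rw [kd_ι_mul, map_sub, aInv_ι_mul, sub_zero, map_smul, smul_eq_mul]
    exact I.mul_mem_right _ (hw v)

theorem aInv_kproj_zero (z : ExteriorAlgebra P M) :
    ExteriorAlgebra.algebraMapInv (kproj 0 z) = (ExteriorAlgebra.algebraMapInv z : P) := by
  induction z using left_ind with
  | h0 x => rw [kproj_algebraMap, if_pos rfl]
  | h1 y z hy hz => rw [map_add, map_add, map_add, hy, hz]
  | h2 v z _ => rw [kproj_ι_mul_zero, map_zero, aInv_ι_mul]

theorem aInv_mem (F : MFil P) (G : MFilM F M) {m : ℕ} {z : ExteriorAlgebra P M}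
    (hz : z ∈ filA F G m) : ExteriorAlgebra.algebraMapInv z ∈ F.F m := by
  rw [mem_filA] at hz
  induction hz with
  | zero m => rw [map_zero]; exact (F.F m).zero_mem
  | add m y z _ _ hy hz => rw [map_add]; exact (F.F m).add_mem hy hz
  | alg m x hx => rw [aInv_algebraMap]; exact hx
  | ι_mul b m v z _ _ _ => rw [aInv_ι_mul]; exact (F.F _).zero_mem
  | down m z _ hz => exact F.succ m hz

end Aug

section KozAug

variable {R : Type u} [CommRing R] {P : Type u} [CommRing P] [Algebra R P] (F : MFil P) {e : ℕ}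
  (G : MFilM F (Fin e → P)) (w : Module.Dual P (Fin e → P))
  (hw : ∀ b v, v ∈ G.G b → w v ∈ F.F b) (k : ℕ) {D : Type u} [CommRing D] [Algebra R D]
  (π : P →ₐ[R] D) (hπ : ∀ x, x ∈ F.F 1 → π x = 0)

/-- the augmentation `K → D` -/
noncomputable def kozAug : KozK F G k →ₗ[R] D :=
  (((filA F G (k + 1)).restrictScalars R).liftQ
    (π.toLinearMap ∘ₗ
      (ExteriorAlgebra.algebraMapInv (R := P) (M := Fin e → P)).toLinearMap.restrictScalars R)
    (fun z hz => by
      rw [LinearMap.mem_ker]
      exact hπ _ (F.le (by omega) (aInv_mem F G hz)))) ∘ₗ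
    (Submodule.Quotient.restrictScalarsEquiv R (filA F G (k + 1))).symm.toLinearMap

theorem kozAug_mk (z : ExteriorAlgebra P (Fin e → P)) :
    kozAug F G k π hπ ((filA F G (k + 1)).mkQ z) = π (ExteriorAlgebra.algebraMapInv z) := rfl

theorem kozAug_surj (h : Function.Surjective π) : Function.Surjective (kozAug F G k π hπ) := by
  intro y
  obtain ⟨x, rfl⟩ := h y
  exact ⟨(filA F G (k + 1)).mkQ (algebraMap P _ x), by rw [kozAug_mk, aInv_algebraMap]⟩

theorem kozAug_d (hw1 : ∀ v, w v ∈ F.F 1) (v : KozK F G k) :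
    kozAug F G k π hπ (kozD (R := R) F G w hw k v) = 0 := by
  obtain ⟨z, rfl⟩ := Submodule.mkQ_surjective _ v
  rw [kozD_mk, kozAug_mk]
  exact hπ _ (aInv_kd w hw1 z)

theorem kozAug_pr (v : KozK F G k) :
    kozAug F G k π hπ (kozPr (R := R) F G w hw k 0 v) = kozAug F G k π hπ v := by
  obtain ⟨z, rfl⟩ := Submodule.mkQ_surjective _ v
  rw [kozPr_mk, kozAug_mk, kozAug_mk, Fin.val_zero, aInv_kproj_zero]

/-- for positive weights the functional has values in `F 1` -/
theorem dualOf_mem_one {P : Type u} [CommRing P] (F : MFil P) {e : ℕ} {wt : Fin e → ℕ}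
    {u : Fin e → P} (hu : ∀ i, u i ∈ F.F (wt i)) (h1 : ∀ i, 1 ≤ wt i) (v : Fin e → P) :
    dualOf u v ∈ F.F 1 := by
  rw [dualOf_apply]
  exact (F.F 1).sum_mem fun i _ => (F.F 1).mul_mem_left _ (F.le (h1 i) (hu i))

end KozAug

end Groth.Agent.ResProp.EF.K734
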